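import Cfsg.Agent.H645.AbelPair
import Cfsg.Agent.H645.FusCount

/-!
# Pairs of `C_G(Q)` and pairs of `G`: monotonicity for abelian groups

* `leIdx_locIdx`: `locIdx Q` preserves the order of pairs with abelian subgroup;
* `blockRank_locIdx`, `card_locIdx`: it preserves the rank and the number of characters.
-/

set_option autoImplicit false
set_option linter.unusedSectionVars false

open Cfsg

namespace Cfsg.Agent.H645.LocMono

open Cfsg.Agent.Blocks.Local Cfsg.Agent.Blocks.Basic
open Cfsg.Agent.H649 hiding irrMap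
open Cfsg.Agent.H651
open Cfsg.Agent.H649 (irrMap)

universe u

variable {G : Type u} [Group G] {p : ℕ} {M : Ideal AlgInt}

theorem blockRank_locIdx (Q : Subgroup G)
    (b : BrauerPairIdx (Subgroup.centralizer (Q : Set G))) :
    blockRank p (locIdx Q b).2 = blockRank p b.2 := blockRank_blkMap _ _ _

theorem card_locIdx (Q : Subgroup G)
    (b : BrauerPairIdx (Subgroup.centralizer (Q : Set G))) :
    Nat.card (locIdx Q b).2 = Nat.card b.2 :=
  Nat.card_image_of_injective (irrMap_injective _) _

theorem isPBlock_locIdx {Q : Subgroup G}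
    {b : BrauerPairIdx (Subgroup.centralizer (Q : Set G))} (hb : IsPBlock M b.2) :
    IsPBlock M (locIdx Q b).2 := isPBlock_blkMap hb

theorem locSub_mono (Q : Subgroup G) {R S : Subgroup (Subgroup.centralizer (Q : Set G))}
    (h : R ≤ S) : locSub Q R ≤ locSub Q S :=
  sup_le_sup_left (Subgroup.map_mono h) _

variable [Finite G] [Fact p.Prime] [M.IsPrime]

theorem inducedCentralCharIn_loc (Q : Subgroup G)
    (R S : Subgroup (Subgroup.centralizer (Q : Set G)))
    (ξ : IrrCharacter (Subgroup.centralizer (S : Set (Subgroup.centralizer (Q : Set G)))))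
    (x : Subgroup.centralizer (Q : Set G)) :
    inducedCentralCharIn (Subgroup.centralizer ((locSub Q R : Subgroup G) : Set G))
      (Subgroup.centralizer ((locSub Q S : Subgroup G) : Set G))
      (irrMap (locIso Q S) ξ : _ → ℂ) (x : G) =
    inducedCentralCharIn (Subgroup.centralizer (R : Set (Subgroup.centralizer (Q : Set G))))
      (Subgroup.centralizer (S : Set (Subgroup.centralizer (Q : Set G)))) (ξ : _ → ℂ) x := by
  unfold inducedCentralCharIn
  symm
  refine finsum_mem_eq_of_bijOn (locIso Q S) ⟨?_, (locIso Q S).injective.injOn, ?_⟩ ?_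
  · rintro k ⟨y, hy⟩
    refine ⟨locIso Q R y, ?_⟩
    rw [locIso_coe, locIso_coe]
    exact congrArg Subtype.val hy
  · rintro k ⟨y, hy⟩
    refine ⟨(locIso Q S).symm k, ⟨(locIso Q R).symm y, ?_⟩, (locIso Q S).apply_symm_apply k⟩
    apply Subtype.ext
    change ((((locIso Q R).symm y : Subgroup.centralizer
      (R : Set (Subgroup.centralizer (Q : Set G)))) : Subgroup.centralizer (Q : Set G)) : G) *
      ((((locIso Q S).symm k : Subgroup.centralizer
      (S : Set (Subgroup.centralizer (Q : Set G)))) : Subgroup.centralizer (Q : Set G)) : G) *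
      ((((locIso Q R).symm y : Subgroup.centralizer
      (R : Set (Subgroup.centralizer (Q : Set G)))) : Subgroup.centralizer (Q : Set G)) : G)⁻¹ = _
    rw [locIso_symm_coe, locIso_symm_coe]
    exact hy
  · intro k _
    rw [irrMap_apply', irrMap_one]

/-- `locIdx Q` preserves the order of pairs with abelian subgroup. -/
theorem leIdx_locIdx (hM : IsPModular p M) {Q : Subgroup G} (hQ : IsPGroup p Q)
    (hQQ : ∀ x ∈ Q, ∀ y ∈ Q, x * y = y * x)
    {b a : BrauerPairIdx (Subgroup.centralizer (Q : Set G))}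
    (ha : IsBrauerPair p M a.1 a.2) (hab : ∀ x ∈ a.1, ∀ y ∈ a.1, x * y = y * x)
    (hle : LEIdx p M b a) : LEIdx p M (locIdx Q b) (locIdx Q a) := by
  obtain ⟨R, g⟩ := b
  obtain ⟨S, h⟩ := a
  have hRS : R ≤ S := LEIdx.le hle
  have h1 := (AbelPair.inducedIn_iff hM ha.1 hab hRS ha.2).2 hle
  have hp1 : IsPGroup p (locSub Q S) := isPGroup_locSub hQ ha.1
  have hab1 : ∀ x ∈ locSub Q S, ∀ y ∈ locSub Q S, x * y = y * x := by
    have h2 : locSub Q S ≤ Subgroup.centralizer ((locSub Q S : Subgroup G) : Set G) := by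
      refine sup_le (fun x hx => ?_) ?_
      · have h3 : x ∈ Subgroup.centralizer (Q : Set G) :=
          Subgroup.mem_centralizer_iff.2 fun y hy => hQQ y hy x hx
        refine (mem_centralizer_locSub_iff (Q := Q) (R := S) ⟨x, h3⟩).2 ?_
        refine Subgroup.mem_centralizer_iff.2 fun y _ => Subtype.ext ?_
        exact (Subgroup.mem_centralizer_iff.1 y.2 x hx).symm
      · rintro _ ⟨x, hx, rfl⟩
        refine (mem_centralizer_locSub_iff (Q := Q) (R := S) x).2 ?_
        exact Subgroup.mem_centralizer_iff.2 fun y hy => hab y hy x hx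
    intro x hx y hy
    exact Subgroup.mem_centralizer_iff.1 (h2 hy) x hx
  refine (AbelPair.inducedIn_iff hM hp1 hab1 (locSub_mono Q hRS) (isPBlock_blkMap ha.2)).1 ?_
  refine ⟨isPBlock_blkMap ha.2, isPBlock_blkMap h1.2.1, ?_⟩
  rintro _ ⟨ξ, hξ, rfl⟩ _ ⟨χ, hχ, rfl⟩ x
  have h2 := h1.2.2 ξ hξ χ hχ ((locIso Q R).symm x)
  have h3 : centralChar (irrMap (locIso Q R) χ : _ → ℂ) x =
      centralChar (χ : _ → ℂ) ((locIso Q R).symm x) := centralChar_map (locIso Q R) _ x
  have h4 := inducedCentralCharIn_loc Q R S ξ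
    (((locIso Q R).symm x : Subgroup.centralizer (R : Set (Subgroup.centralizer (Q : Set G)))) :
      Subgroup.centralizer (Q : Set G))
  rw [locIso_symm_coe] at h4
  rw [h3]
  change MemLocalIdeal M (inducedCentralCharIn
    (Subgroup.centralizer ((locSub Q R : Subgroup G) : Set G))
    (Subgroup.centralizer ((locSub Q S : Subgroup G) : Set G)) _ _ - _)
  rw [h4]
  exact h2

end Cfsg.Agent.H645.LocMono
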