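import Cfsg.Agent.H645.TraceForm
import Cfsg.Agent.H645.LocMono
import Cfsg.Agent.Blocks.CliffordCentral
import Cfsg.Agent.Blocks.CentralizerSum

/-!
# Watanabe's theorem

`a = (P, e)` is a maximal Brauer pair of the block `B`, `P` abelian, and `z ∈ P` is centralized by
the stabilizer of `a`.  Then the blocks `B` and `b_z` (with `(⟨z⟩, b_z) ≤ (P, e)`) have the same
number of irreducible Brauer characters (`rank_eq`) and of irreducible characters (`card_eq`).
-/

set_option autoImplicit false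
set_option linter.unusedSectionVars false

open Cfsg
open scoped ComplexConjugate

namespace Cfsg.Agent.H645.Watanabe

open Cfsg.Agent.H651 Cfsg.Agent.H649 Cfsg.Agent.Characters
open Cfsg.Agent.H652.DoubleCount Cfsg.Agent.H645.FusCount Cfsg.Agent.H650
open Cfsg.Agent.H645.TraceForm Cfsg.Agent.H645.LocMono

universe u

section top

variable {G : Type u} [Group G] [Finite G] {M : Ideal AlgInt} [M.IsPrime]

theorem isInducedBlock_top {K : Subgroup G} (hK : K = ⊤) {f : Set (IrrCharacter K)}
    (hf : IsPBlock M f) : ∃ ι : K ≃* G, IsInducedBlock M K f (blkMap ι f) := by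
  subst hK
  have := Fintype.ofFinite G
  have := Fintype.ofFinite (⊤ : Subgroup G)
  refine ⟨Subgroup.topEquiv, hf, isPBlock_blkMap hf, ?_⟩
  rintro ξ hξ _ ⟨χ, hχ, rfl⟩ g
  have h1 : classInner (fun n : (⊤ : Subgroup G) =>
      (Cfsg.Agent.H649.irrMap Subgroup.topEquiv ξ : G → ℂ) n)
      (ξ : (⊤ : Subgroup G) → ℂ) ≠ 0 := by
    have h2 : (fun n : (⊤ : Subgroup G) =>
      (Cfsg.Agent.H649.irrMap Subgroup.topEquiv ξ : G → ℂ) n) = ξ := by
      funext n
      exact irrMap_apply' Subgroup.topEquiv ξ n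
    rw [h2, Core.classInner_irr_self ξ.2]
    exact one_ne_zero
  have h2 := Cfsg.Agent.Blocks.CliffordCentral.centralChar_eq_inducedCentralChar ⊤ _ ξ h1
    ⟨g, Subgroup.mem_top g⟩
  rw [← h2]
  exact Cfsg.Agent.Blocks.Basic.isPBlock_sameBlock (isPBlock_blkMap hf)
    (irrMap_mem_blkMap.2 hξ) (irrMap_mem_blkMap.2 hχ) g

end top

variable {G : Type u} [Group G] [Fintype G] {p : ℕ} [Fact p.Prime] {M : Ideal AlgInt}
  [M.IsPrime]

theorem rank_of_bot (hM : IsPModular p M) {B : Set (IrrCharacter G)} {Q : Subgroup G}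
    (hQ : Subgroup.centralizer (Q : Set G) = ⊤)
    {f : Set (IrrCharacter (Subgroup.centralizer (Q : Set G)))}
    (hf : IsBrauerPairOf p M B Q f) : blockRank p f = blockRank p B := by
  obtain ⟨ι, hι⟩ := isInducedBlock_top hQ hf.1.2
  have h1 := (isBrauerPairOf_iff_isInducedBlock hM hf.2.1 hf.1.1 hf.1.2).1 hf
  rw [Cfsg.Agent.Blocks.CentralizerSum.inducedBlock_unique h1 hι, blockRank_blkMap]

/-- The statement. -/
def Thm (p : ℕ) (M : Ideal AlgInt) (G : Type u) [Group G] : Prop :=
  ∀ (B : Set (IrrCharacter G)) (a : BrauerPairIdx G), IsMaximalBrauerPair p M B a.1 a.2 →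
    (∀ x ∈ a.1, ∀ y ∈ a.1, x * y = y * x) → ∀ z ∈ a.1, (∀ t ∈ stab a, t * z * t⁻¹ = z) →
    blockRank p (bP p M a z).2 = blockRank p B

section loc

variable (hM : IsPModular p M) {B : Set (IrrCharacter G)} {a : BrauerPairIdx G}
  (hmax : IsMaximalBrauerPair p M B a.1 a.2) (hab : ∀ x ∈ a.1, ∀ y ∈ a.1, x * y = y * x)
  {Q : Subgroup G} {f : Set (IrrCharacter (Subgroup.centralizer (Q : Set G)))}
  (hle : LEIdx p M ⟨Q, f⟩ a)

omit [Fintype G] [Fact p.Prime] [M.IsPrime] in
theorem conjIdx_of_locIdx {Q : Subgroup G}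
    {a' b' : BrauerPairIdx (Subgroup.centralizer (Q : Set G))}
    (h : locIdx Q b' = locIdx Q a') (hb : Q ≤ b'.1.map (Subgroup.centralizer (Q : Set G)).subtype)
    (ha : Q ≤ a'.1.map (Subgroup.centralizer (Q : Set G)).subtype) : b' = a' := by
  have h1 : b'.1 = a'.1 := by
    have h2 : locSub Q b'.1 = locSub Q a'.1 := congrArg Sigma.fst h
    rw [locSub, locSub, sup_eq_right.2 hb, sup_eq_right.2 ha] at h2
    exact Subgroup.map_injective (Subgroup.subtype_injective _) h2
  refine idx_ext h1 fun φ => ?_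
  classical
  let ψ : G → ℂ := fun g =>
    if hg : g ∈ Subgroup.centralizer (Q : Set G) then φ ⟨g, hg⟩ else 0
  have hψ : (fun c : Subgroup.centralizer (Q : Set G) => ψ (c : G)) = φ := by
    funext c
    change (if hg : (c : G) ∈ Subgroup.centralizer (Q : Set G) then φ ⟨c, hg⟩ else 0) = φ c
    rw [dif_pos c.2]
  rw [← hψ, ← locIdx_test, ← locIdx_test, h]

include hM hmax hab hle

/-- The pair of `C_G(Q)` corresponding to `a`. -/
theorem exists_loc : ∃ a' : BrauerPairIdx (Subgroup.centralizer (Q : Set G)),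
    a'.1 = a.1.subgroupOf (Subgroup.centralizer (Q : Set G)) ∧ locIdx Q a' = a ∧
    IsMaximalBrauerPair p M f a'.1 a'.2 ∧ (∀ x ∈ a'.1, ∀ y ∈ a'.1, x * y = y * x) ∧
    (∀ x : Subgroup.centralizer (Q : Set G), x ∈ stab a' ↔ (x : G) ∈ stab a) ∧
    ∀ v : Subgroup.centralizer (Q : Set G), v ∈ a'.1 →
      ∀ b : BrauerPairIdx G, b.1 = Q ⊔ Subgroup.zpowers (v : G) → LEIdx p M b a →
        blockRank p (bP p M a' v).2 = blockRank p b.2 := by
  have hQP : Q ≤ a.1 := LEIdx.le hle
  have hPC : a.1 ≤ Subgroup.centralizer (Q : Set G) := fun y hy =>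
    Subgroup.mem_centralizer_iff.2 fun q hq => hab q (hQP hq) y hy
  obtain ⟨h, hh, hloc⟩ := exists_locIdx_eq hM hmax.1.1 hPC hle
  have hmax' := isMaximal_local hM hmax hPC hle hh
  have hab' : ∀ x ∈ a.1.subgroupOf (Subgroup.centralizer (Q : Set G)),
      ∀ y ∈ a.1.subgroupOf (Subgroup.centralizer (Q : Set G)), x * y = y * x :=
    fun x hx y hy => Subtype.ext (hab x hx y hy)
  have := Fintype.ofFinite (Subgroup.centralizer (Q : Set G))
  have hmap : Q ≤ (a.1.subgroupOf (Subgroup.centralizer (Q : Set G))).map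
      (Subgroup.centralizer (Q : Set G)).subtype := by
    rw [Subgroup.map_subgroupOf_eq_of_le hPC]
    exact hQP
  refine ⟨⟨a.1.subgroupOf (Subgroup.centralizer (Q : Set G)), h⟩, rfl, hloc, hmax', hab', ?_, ?_⟩
  · intro x
    rw [mem_stab, mem_stab]
    constructor
    · intro hx
      rw [← show locIdx Q ⟨a.1.subgroupOf (Subgroup.centralizer (Q : Set G)), h⟩ = a from hloc,
        conjIdx_locIdx, hx]
    · intro hx
      have hx' : conjIdx (x : G) (locIdx Q ⟨a.1.subgroupOf (Subgroup.centralizer (Q : Set G)),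
          h⟩) = locIdx Q ⟨a.1.subgroupOf (Subgroup.centralizer (Q : Set G)), h⟩ := by
        rw [show locIdx Q ⟨a.1.subgroupOf (Subgroup.centralizer (Q : Set G)), h⟩ = a from hloc, hx]
      rw [conjIdx_locIdx] at hx'
      refine conjIdx_of_locIdx hx' ?_ hmap
      rw [conjIdx_fst, Subgroup.map_map]
      have h1 := (mem_normalizer_iff_map_conj Q (x : G)).1
        (Subgroup.centralizer_le_normalizer _ x.2)
      conv_lhs => rw [← h1]
      refine (Subgroup.map_mono hmap).trans (le_of_eq ?_)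
      rw [Subgroup.map_map]
      rfl
  · intro v hv b hb1 hb
    obtain ⟨h1, h2⟩ := bP_spec hM hmax'.1.1 (a := ⟨a.1.subgroupOf (Subgroup.centralizer
      (Q : Set G)), h⟩) hv
    have h3 := leIdx_locIdx hM (hmax.1.1.1.to_le hQP)
      (fun x hx y hy => hab x (hQP hx) y (hQP hy)) hmax'.1.1 hab' h2
    rw [show locIdx Q ⟨a.1.subgroupOf (Subgroup.centralizer (Q : Set G)), h⟩ = a from hloc] at h3
    have h4 : (locIdx Q (bP p M ⟨a.1.subgroupOf (Subgroup.centralizer (Q : Set G)), h⟩ v)).1 =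
        b.1 := by
      change locSub Q (bP p M ⟨a.1.subgroupOf (Subgroup.centralizer (Q : Set G)), h⟩ v).1 = b.1
      rw [h1, hb1, locSub, MonoidHom.map_zpowers]
      rfl
    rw [← eq_of_leIdx hM hmax.1.1 h3 hb h4, blockRank_locIdx]

/-- The local step. -/
theorem rank_local (hThm : Thm p M (Subgroup.centralizer (Q : Set G))) {z : G} (hz : z ∈ a.1)
    (hzT : ∀ t ∈ stab a, t * z * t⁻¹ = z) {b : BrauerPairIdx G}
    (hb1 : b.1 = Q ⊔ Subgroup.zpowers z) (hb : LEIdx p M b a) :
    blockRank p b.2 = blockRank p f := by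
  have hQP : Q ≤ a.1 := LEIdx.le hle
  have hPC : a.1 ≤ Subgroup.centralizer (Q : Set G) := fun y hy =>
    Subgroup.mem_centralizer_iff.2 fun q hq => hab q (hQP hq) y hy
  obtain ⟨a', h1, h2, h3, h4, h5, h6⟩ := exists_loc hM hmax hab hle
  have hz' : (⟨z, hPC hz⟩ : Subgroup.centralizer (Q : Set G)) ∈ a'.1 := by
    rw [h1]
    exact hz
  rw [← hThm f a' h3 h4 ⟨z, hPC hz⟩ hz' fun t ht => Subtype.ext (hzT t ((h5 t).1 ht)),
    h6 ⟨z, hPC hz⟩ hz' b hb1 hb]

end loc

theorem exists_pair (hM : IsPModular p M) {a : BrauerPairIdx G} (ha : IsBrauerPair p M a.1 a.2)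
    {Q : Subgroup G} (hQ : Q ≤ a.1) : ∃ b : BrauerPairIdx G, b.1 = Q ∧ LEIdx p M b a := by
  obtain ⟨f, hf⟩ := Cfsg.Agent.H644.exists_subpairLE hM ha Q hQ
  exact ⟨⟨Q, f⟩, rfl, hf⟩

theorem thm_step (hM : IsPModular p M)
    (ih : ∀ K : Subgroup G, Nat.card K < Nat.card G → Thm p M K) : Thm p M G := by
  classical
  intro B a hmax hab z hz hzT
  obtain ⟨F, hF, -⟩ := Cfsg.Agent.S4677.result p M hM B a.1 a.2 hmax
  have hF' : IsBlockFusionSystemOn p M B a.1 a.2 F := hF
  have := Fintype.ofFinite a.1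
  have h := sum_foc_eq hM hmax hab hF' hz hzT
  -- noncentral elements
  have hnc : ∀ v ∈ a.1, v ∉ Subgroup.center G → ∀ b : BrauerPairIdx G,
      b.1 = Subgroup.zpowers v ⊔ Subgroup.zpowers z → LEIdx p M b a →
      blockRank p (bP p M a v).2 = blockRank p b.2 := by
    intro v hv hvc b hb1 hb
    obtain ⟨h1, h2⟩ := bP_spec hM hmax.1.1 hv
    have hlt : Nat.card (Subgroup.centralizer ((bP p M a v).1 : Set G)) < Nat.card G := by
      refine lt_of_le_of_ne (Subgroup.card_le_card_group _) fun h0 => hvc ?_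
      have h3 := Subgroup.eq_top_of_card_eq _ h0
      rw [Subgroup.mem_center_iff]
      intro g
      have h4 : g ∈ Subgroup.centralizer ((bP p M a v).1 : Set G) := by
        rw [h3]; exact Subgroup.mem_top g
      rw [h1] at h4
      exact (Subgroup.mem_centralizer_iff.1 h4 v (Subgroup.mem_zpowers v)).symm
    have h5 := rank_local hM hmax hab (Q := (bP p M a v).1) (f := (bP p M a v).2) h2
      (ih _ hlt) hz hzT (b := b) (by rw [h1]; exact hb1) hb
    exact h5.symm
  have hkey : ∀ w : a.1, (w : G) ∈ F.focalSubgroup → w ≠ 1 →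
      blockRank p (bP p M a (w : G)).2 = blockRank p (bP p M a (z * w)).2 := by
    intro w hw hw1
    have hcen : ∀ c : G, c ∈ Subgroup.center G → ∀ t : G, t * c * t⁻¹ = c := by
      intro c hc t
      rw [Subgroup.mem_center_iff.1 hc t, mul_inv_cancel_right]
    have h1 : (w : G) ∉ Subgroup.center G := fun hc =>
      hw1 (Subtype.ext (eq_one_of_mem_foc hM hmax hab hF' hw fun t _ => hcen _ hc t))
    have h2 : z * (w : G) ∉ Subgroup.center G := fun hc => by
      refine hw1 (Subtype.ext (eq_one_of_mem_foc hM hmax hab hF' hw fun t ht => ?_))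
      have h3 := hcen _ hc t
      have h4 := hzT t ht
      have h5 : t * (z * w) * t⁻¹ = (t * z * t⁻¹) * (t * w * t⁻¹) := by group
      rw [h5, h4] at h3
      exact mul_left_cancel h3
    obtain ⟨b, hb1, hb⟩ := exists_pair hM hmax.1.1 (Q := Subgroup.zpowers (w : G) ⊔
      Subgroup.zpowers z) (sup_le (Subgroup.zpowers_le_of_mem w.2) (Subgroup.zpowers_le_of_mem hz))
    rw [hnc w w.2 h1 b hb1 hb]
    refine (hnc (z * w) (a.1.mul_mem hz w.2) h2 b ?_ hb).symm
    rw [hb1]
    apply le_antisymm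
    · refine sup_le ?_ le_sup_right
      rw [Subgroup.zpowers_le]
      have h4 : z * (w : G) ∈ Subgroup.zpowers (z * (w : G)) ⊔ Subgroup.zpowers z :=
        Subgroup.mem_sup_left (Subgroup.mem_zpowers _)
      have h5 : z ∈ Subgroup.zpowers (z * (w : G)) ⊔ Subgroup.zpowers z :=
        Subgroup.mem_sup_right (Subgroup.mem_zpowers _)
      have h6 := Subgroup.mul_mem _ (Subgroup.inv_mem _ h5) h4
      rwa [inv_mul_cancel_left] at h6
    · refine sup_le ?_ le_sup_right
      rw [Subgroup.zpowers_le]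
      exact Subgroup.mul_mem _ (Subgroup.mem_sup_right (Subgroup.mem_zpowers z))
        (Subgroup.mem_sup_left (Subgroup.mem_zpowers _))
  rw [← sub_eq_zero, ← Finset.sum_sub_distrib] at h
  rw [Finset.sum_eq_single (1 : a.1)] at h
  · rw [← mul_sub] at h
    rcases mul_eq_zero.1 h with h1 | h1
    · exact absurd h1 (by exact_mod_cast Nat.card_pos.ne')
    · rw [sub_eq_zero, Nat.cast_inj] at h1
      have h2 : blockRank p (bP p M a ((1 : a.1) : G)).2 = blockRank p B := by
        rw [OneMemClass.coe_one]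
        obtain ⟨h3, h4⟩ := bP_spec hM hmax.1.1 a.1.one_mem
        refine rank_of_bot hM ?_ (isBrauerPairOf_bP hM hmax a.1.one_mem)
        rw [h3, Subgroup.zpowers_one_eq_bot, eq_top_iff]
        intro x _
        rw [Subgroup.mem_centralizer_iff]
        intro y hy
        rw [Subgroup.mem_bot.1 hy, one_mul, mul_one]
      rw [h2, OneMemClass.coe_one, mul_one] at h1
      exact h1.symm
  · intro w hw hw1
    rw [hkey w (Finset.mem_filter.1 hw).2 hw1, sub_self]
  · intro h1
    refine absurd (Finset.mem_filter.2 ⟨Finset.mem_univ _, ?_⟩) h1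
    exact F.focalSubgroup.one_mem

theorem thm_all (hM : IsPModular p M) : ∀ (n : ℕ) (G : Type u) [Group G] [Finite G],
    Nat.card G = n → Thm p M G := by
  intro n
  induction n using Nat.strong_induction_on with
  | _ n ih =>
    intro G _ _ hn
    have := Fintype.ofFinite G
    exact thm_step hM fun K hK => ih (Nat.card K) (hn ▸ hK) K rfl

section final

variable (hM : IsPModular p M) {B : Set (IrrCharacter G)} {a : BrauerPairIdx G}
  (hmax : IsMaximalBrauerPair p M B a.1 a.2) (hab : ∀ x ∈ a.1, ∀ y ∈ a.1, x * y = y * x)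
  {z : G} (hz : z ∈ a.1) (hzT : ∀ t ∈ stab a, t * z * t⁻¹ = z)

include hM hmax hab hz hzT

/-- Watanabe's theorem for the number of irreducible Brauer characters. -/
theorem rank_eq : blockRank p (bP p M a z).2 = blockRank p B :=
  thm_all hM (Nat.card G) G rfl B a hmax hab z hz hzT

/-- Watanabe's theorem for the number of irreducible characters. -/
theorem card_eq : Nat.card (bP p M a z).2 = Nat.card B := by
  classical
  have := Fintype.ofFinite a.1
  obtain ⟨h1, h2⟩ := bP_spec hM hmax.1.1 hz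
  obtain ⟨a', k1, k2, k3, k4, k5, k6⟩ := exists_loc hM hmax hab (Q := (bP p M a z).1)
    (f := (bP p M a z).2) h2
  have := Fintype.ofFinite (Subgroup.centralizer ((bP p M a z).1 : Set G))
  have := Fintype.ofFinite a'.1
  have e1 := TraceForm.card_eq hM hmax (ctrl_of_abelian hM hmax hab)
  have e2 := TraceForm.card_eq hM k3 (ctrl_of_abelian hM k3 k4)
  have hQP : (bP p M a z).1 ≤ a.1 := LEIdx.le h2
  have hPC : a.1 ≤ Subgroup.centralizer ((bP p M a z).1 : Set G) := fun y hy =>
    Subgroup.mem_centralizer_iff.2 fun q hq => hab q (hQP hq) y hy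
  -- the stabilizer centralizes `z`
  have hTC : stab a ≤ Subgroup.centralizer ((bP p M a z).1 : Set G) := by
    intro t ht
    rw [h1, Cfsg.Agent.H652.Ctr.centralizer_zpowers_eq, Subgroup.mem_centralizer_singleton_iff]
    calc t * z = t * z * t⁻¹ * t := by group
      _ = z * t := by rw [hzT t ht]
  have hstab : stab a' = (stab a).subgroupOf (Subgroup.centralizer ((bP p M a z).1 : Set G)) := by
    ext x
    exact k5 x
  have c1 : Nat.card (stab a') = Nat.card (stab a) := by
    rw [hstab]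
    exact Nat.card_congr (Subgroup.subgroupOfEquivOfLe hTC).toEquiv
  have c2 : ∀ v : Subgroup.centralizer ((bP p M a z).1 : Set G),
      Nat.card (stab a' ⊓ Subgroup.centralizer ({v} : Set _) : Subgroup _) =
      Nat.card (stab a ⊓ Subgroup.centralizer ({(v : G)} : Set G) : Subgroup G) := by
    intro v
    have h3 : (stab a' ⊓ Subgroup.centralizer ({v} : Set _) : Subgroup _) =
        (stab a ⊓ Subgroup.centralizer ({(v : G)} : Set G) : Subgroup G).subgroupOf
          (Subgroup.centralizer ((bP p M a z).1 : Set G)) := by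
      ext x
      rw [Subgroup.mem_inf, k5, Subgroup.mem_subgroupOf, Subgroup.mem_inf,
        Subgroup.mem_centralizer_singleton_iff, Subgroup.mem_centralizer_singleton_iff]
      refine and_congr_right fun _ => ?_
      exact ⟨fun h => congrArg Subtype.val h, fun h => Subtype.ext h⟩
    rw [h3]
    exact Nat.card_congr (Subgroup.subgroupOfEquivOfLe (inf_le_left.trans hTC)).toEquiv
  have c3 : ∀ v : Subgroup.centralizer ((bP p M a z).1 : Set G), v ∈ a'.1 →
      blockRank p (bP p M a' v).2 = blockRank p (bP p M a (v : G)).2 := by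
    intro v hv
    have hv' : (v : G) ∈ a.1 := by
      rw [k1] at hv
      exact hv
    obtain ⟨b, hb1, hb⟩ := exists_pair hM hmax.1.1 (Q := (bP p M a z).1 ⊔
      Subgroup.zpowers (v : G)) (sup_le hQP (Subgroup.zpowers_le_of_mem hv'))
    rw [k6 v hv b hb1 hb]
    obtain ⟨h3, h4⟩ := bP_spec hM hmax.1.1 hv'
    refine rank_local hM hmax hab (Q := (bP p M a (v : G)).1) (f := (bP p M a (v : G)).2) h4
      (thm_all hM _ _ rfl) hz hzT (b := b) ?_ hb
    rw [hb1, h3, sup_comm]
    exact congrArg (fun X => Subgroup.zpowers (v : G) ⊔ X) h1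
  have hmem : ∀ v : a'.1, ((v : Subgroup.centralizer ((bP p M a z).1 : Set G)) : G) ∈ a.1 := by
    intro v
    exact Subgroup.mem_subgroupOf.1 (k1.le v.2)
  have hsum : ∑ v : a'.1,
        ((Nat.card (stab a' ⊓ Subgroup.centralizer
          ({(v : Subgroup.centralizer ((bP p M a z).1 : Set G))} : Set _) : Subgroup _) : ℂ) *
          blockRank p (bP p M a' (v : Subgroup.centralizer ((bP p M a z).1 : Set G))).2) =
      ∑ v : a.1,
        ((Nat.card (stab a ⊓ Subgroup.centralizer ({(v : G)} : Set G) : Subgroup G) : ℂ) *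
          blockRank p (bP p M a (v : G)).2) := by
    refine Fintype.sum_bijective (fun v : a'.1 =>
      (⟨((v : Subgroup.centralizer ((bP p M a z).1 : Set G)) : G), hmem v⟩ : a.1))
      ⟨?_, ?_⟩ _ _ ?_
    · intro v w h
      exact Subtype.ext (Subtype.ext (congrArg (fun x : a.1 => (x : G)) h))
    · intro w
      refine ⟨⟨⟨(w : G), hPC w.2⟩, ?_⟩, rfl⟩
      rw [k1]
      exact w.2
    · intro v
      rw [c2, c3 _ v.2]
  rw [hsum, c1, ← e1] at e2
  exact_mod_cast e2

end final

end Cfsg.Agent.H645.Watanabe
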