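import Mathlib
import Cfsg.Agent.H641.Inertial
import Cfsg.Agent.H641.CycNil
import Cfsg.Agent.H649.AbelLocal
import Cfsg.Agent.H648.Dict
import Cfsg.Agent.H645.SmallTrans

/-!
# Subpairs of a pair with abelian subgroup

* `exists_inducedIn` : for `Q ≤ P`, `P` abelian, a block `c` of `C_G(P)` induces a block of `C_G(Q)`
  inside `C_G(Q)`;
* `inducedIn_iff` : this block `f` is the one with `(Q, f) ≤ (P, c)`;
* `mem_centralizer_of_nilpotent` : an element of the stabilizer of the maximal pair `(P, c)`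
  centralizing `Q` is in `C_G(P)`, if `f` is nilpotent.
-/

set_option autoImplicit false
set_option linter.unusedSectionVars false

open Cfsg

namespace Cfsg.Agent.H645.AbelPair

open Cfsg.Agent.Blocks.Local Cfsg.Agent.Blocks.Basic Cfsg.Agent.H644
open Cfsg.Agent.H649 (conjIdx LEIdx leIdx_conjIdx_iff conjIdx_conjIdx conjIdx_fst conjIdx_mk
  conjIdx_inv_conjIdx leIdx_iff conjIdx_one conjIdx_eq_iff locIdx conjIdx_locIdx
  exists_locIdx_eq isMaximal_local)

universe u

variable {G : Type u} [Group G] [Finite G] {p : ℕ} [Fact p.Prime] {M : Ideal AlgInt} [M.IsPrime]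

theorem exists_inducedIn (hM : IsPModular p M) {P Q : Subgroup G}
    (hP : IsPGroup p P) (hab : ∀ x ∈ P, ∀ y ∈ P, x * y = y * x) (hQP : Q ≤ P)
    {c : Set (IrrCharacter (Subgroup.centralizer (P : Set G)))} (hc : IsPBlock M c) :
    ∃ f : Set (IrrCharacter (Subgroup.centralizer (Q : Set G))),
      IsInducedBlockIn M (Subgroup.centralizer (Q : Set G))
        (Subgroup.centralizer (P : Set G)) c f := by
  have hPC : P ≤ Subgroup.centralizer (Q : Set G) := fun x hx =>
    Subgroup.mem_centralizer_iff.2 fun y hy => hab y (hQP hy) x hx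
  have hchar : CharP (ResField M) p := charP_resField hM
  obtain ⟨ξ, hξ⟩ := isPBlock_nonempty hc
  have hinv : ∀ x : MonoidAlgebra (ResField M) (Subgroup.centralizer (Q : Set G)), IsCls x →
      IsInv P (emb _ x) := fun x hx => isInv_mono hPC (isInv_emb hx)
  obtain ⟨f, hf, -, -, h⟩ := exists_block_of_functional hM
    ((lam M (ξ : Subgroup.centralizer (P : Set G) → ℂ)).comp ((br P).comp
      (emb (Subgroup.centralizer (Q : Set G))).toLinearMap))
    (fun x y hx hy => by
      change lam M _ (br P (emb _ (x * y))) = lam M _ (br P (emb _ x)) * lam M _ (br P (emb _ y))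
      rw [map_mul, br_mul hP (hinv x hx) (hinv y hy)]
      exact lam_mul ξ (isCls_br (isInv_mono (centralizer_mono hQP) (isInv_emb hx)))
        (isCls_br (isInv_mono (centralizer_mono hQP) (isInv_emb hy))))
    (by
      change lam M _ (br P (emb _ 1)) = 1
      rw [map_one, br_one, lam_one])
  refine ⟨f, (Cfsg.Agent.H648.Dict.isInducedBlockIn_iff (centralizer_mono hQP)).2
    ⟨hc, hf, fun ζ hζ χ hχ x hx => ?_⟩⟩
  rw [← h χ hχ x hx, lam_eq_of_mem hc hζ hξ]
  rfl

theorem inducedIn_iff (hM : IsPModular p M) {P Q : Subgroup G}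
    (hP : IsPGroup p P) (hab : ∀ x ∈ P, ∀ y ∈ P, x * y = y * x) (hQP : Q ≤ P)
    {c : Set (IrrCharacter (Subgroup.centralizer (P : Set G)))} (hc : IsPBlock M c)
    {f : Set (IrrCharacter (Subgroup.centralizer (Q : Set G)))} :
    IsInducedBlockIn M (Subgroup.centralizer (Q : Set G))
        (Subgroup.centralizer (P : Set G)) c f ↔ SubpairLE p M Q f P c := by
  constructor
  · intro h
    exact Relation.ReflTransGen.single
      (Cfsg.Agent.H641.isNormalSubpair_of_inducedIn hM hP hab hQP h)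
  · intro h
    obtain ⟨f', hf'⟩ := exists_inducedIn hM hP hab hQP hc
    have h2 : SubpairLE p M Q f' P c := Relation.ReflTransGen.single
      (Cfsg.Agent.H641.isNormalSubpair_of_inducedIn hM hP hab hQP hf')
    rwa [subpairLE_unique hM ⟨hP, hc⟩ Q f f' h h2]

/-- An element centralizing `Q` and stabilizing a maximal pair above `(Q, f)`, `f` nilpotent. -/
theorem mem_centralizer_of_nilpotent (hM : IsPModular p M) {B : Set (IrrCharacter G)}
    {P Q : Subgroup G} {e : Set (IrrCharacter (Subgroup.centralizer (P : Set G)))}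
    (hmax : IsMaximalBrauerPair p M B P e) (hab : ∀ x ∈ P, ∀ y ∈ P, x * y = y * x)
    {f : Set (IrrCharacter (Subgroup.centralizer (Q : Set G)))}
    (hle : SubpairLE p M Q f P e) (hnil : IsNilpotentBlock p M f) {g : G}
    (hg : conjIdx g ⟨P, e⟩ = ⟨P, e⟩) (hgQ : g ∈ Subgroup.centralizer (Q : Set G)) :
    g ∈ Subgroup.centralizer (P : Set G) := by
  have hp : p.Prime := Fact.out
  have hQP : Q ≤ P := subpairLE_le hle
  have hPC : P ≤ Subgroup.centralizer (Q : Set G) := fun x hx =>
    Subgroup.mem_centralizer_iff.2 fun y hy => hab y (hQP hy) x hx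
  have hPP : P ≤ Subgroup.centralizer (P : Set G) := fun x hx =>
    Subgroup.mem_centralizer_iff.2 fun y hy => hab y hy x hx
  obtain ⟨h, hh, hloc⟩ := exists_locIdx_eq hM hmax.1.1 hPC hle
  by_contra hgC
  -- the stabilizer
  set T := pairStab M P e with hT
  have hgT : g ∈ T := (mem_pairStab_iff_stabilizesBlock hM hmax.1.1.2).2
    ((conjIdx_eq_iff hmax.1.1.2 g).1 hg)
  have hndvd := Cfsg.Agent.H641.not_dvd_relIndex hM hmax
  rw [sup_eq_right.2 hPP] at hndvd
  have hTN := pairStab_le_normalizer (M := M) P e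
  have hCT := centralizer_le_pairStab (M := M) P e
  have hnorm : ((Subgroup.centralizer (P : Set G)).subgroupOf T).Normal := by
    refine ⟨fun a ha t => ?_⟩
    rw [Subgroup.mem_subgroupOf] at ha ⊢
    rw [Subgroup.mem_centralizer_iff] at ha ⊢
    intro y hy
    have h1 : (t : G)⁻¹ * y * t ∈ P := (Subgroup.mem_normalizer_iff''.1 (hTN t.2) y).1 hy
    have h2 := ha _ h1
    push_cast
    calc y * ((t : G) * a * (t : G)⁻¹) = t * ((t : G)⁻¹ * y * t * a) * (t : G)⁻¹ := by group
      _ = t * (a * ((t : G)⁻¹ * y * t)) * (t : G)⁻¹ := by rw [h2]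
      _ = (t : G) * a * (t : G)⁻¹ * y := by group
  obtain ⟨a, hta⟩ := Cfsg.Agent.H651.exists_pow_isPRegular hp g
  have hnot := SmallTrans.pow_notMem hp hCT hndvd hgT hgC a
  apply hnot
  set s := g ^ p ^ a with hs
  have hsQ : s ∈ Subgroup.centralizer (Q : Set G) := Subgroup.pow_mem _ hgQ _
  have hsP : conjIdx s ⟨P, e⟩ = ⟨P, e⟩ := Cfsg.Agent.H651.conjIdx_pow_eq hg _
  have hsN := ((conjIdx_eq_iff hmax.1.1.2 s).1 hsP).1
  set σ : Subgroup.centralizer (Q : Set G) := ⟨s, hsQ⟩ with hσ
  have h1 : locIdx Q (conjIdx σ ⟨P.subgroupOf (Subgroup.centralizer (Q : Set G)), h⟩) =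
      locIdx Q ⟨P.subgroupOf (Subgroup.centralizer (Q : Set G)), h⟩ := by
    rw [← conjIdx_locIdx, hloc]
    exact hsP
  have hσN : σ ∈ Subgroup.normalizer ((P.subgroupOf (Subgroup.centralizer (Q : Set G)) :
      Subgroup (Subgroup.centralizer (Q : Set G))) : Set (Subgroup.centralizer (Q : Set G))) := by
    rw [Subgroup.mem_normalizer_iff]
    intro x
    rw [Subgroup.mem_subgroupOf, Subgroup.mem_subgroupOf]
    exact Subgroup.mem_normalizer_iff.1 hsN (x : G)
  have h2 : conjIdx σ ⟨P.subgroupOf (Subgroup.centralizer (Q : Set G)), h⟩ =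
      ⟨P.subgroupOf (Subgroup.centralizer (Q : Set G)), h⟩ := by
    have h3 : (conjIdx σ ⟨P.subgroupOf (Subgroup.centralizer (Q : Set G)), h⟩).1 =
        P.subgroupOf (Subgroup.centralizer (Q : Set G)) := by
      rw [conjIdx_fst]
      exact (Cfsg.Agent.H649.mem_normalizer_iff_map_conj _ σ).1 hσN
    refine Cfsg.Agent.H649.idx_ext h3 fun φ => ?_
    classical
    let ψ : G → ℂ := fun g =>
      if hg : g ∈ Subgroup.centralizer (Q : Set G) then φ ⟨g, hg⟩ else 0
    have hψ : (fun c : Subgroup.centralizer (Q : Set G) => ψ (c : G)) = φ := by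
      funext c
      change (if hg : (c : G) ∈ Subgroup.centralizer (Q : Set G) then φ ⟨c, hg⟩ else 0) = φ c
      rw [dif_pos c.2]
    rw [← hψ, ← Cfsg.Agent.H649.locIdx_test, ← Cfsg.Agent.H649.locIdx_test, h1]
  have h4 := ((conjIdx_eq_iff hh.1.2 σ).1 h2)
  have h5 := hnil.2 _ h hh σ h4.1 h4.2 (by
    unfold IsPRegular at hta ⊢
    rwa [hσ, Subgroup.orderOf_mk])
  rw [Subgroup.mem_centralizer_iff] at h5 ⊢
  intro y hy
  exact congrArg Subtype.val (h5 ⟨y, hPC hy⟩ hy)

end Cfsg.Agent.H645.AbelPair
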