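import Mathlib
import Cfsg.Agent.H650.AnnChar

/-!
# Functions on a finite abelian group orthogonal to the characters trivial on a subgroup

`sum_eq_sum_translate`: if `g` is orthogonal to all the nontrivial characters of `P` trivial on `K`,
then the sums of `g` over the cosets of `K` are equal.

`exists_apply_ne_one`: the characters trivial on `K` separate the elements outside `K` from `1`.

`disjoint_of_coprime`: for a finite group `A` of automorphisms of an abelian `p`-group, of order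
prime to `p`, fixed points and commutators are disjoint.
-/

set_option autoImplicit false

namespace Cfsg.Agent.H645.FourierKer

open Cfsg.Agent.H650

section

variable {P : Type*} [Group P] [Finite P]

theorem exists_apply_ne_one (hab : ∀ x y : P, x * y = y * x) {K : Subgroup P} {v : P}
    (hv : v ∉ K) : ∃ l ∈ ann K, l v ≠ 1 := by
  by_contra hcon
  push Not at hcon
  have hcomm : ∀ (L : Subgroup P) (x y : P), x⁻¹ * (y * x * y⁻¹) ∈ L := by
    intro L x y
    rw [hab y x, mul_assoc, mul_inv_cancel, mul_one, inv_mul_cancel]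
    exact L.one_mem
  have h1 : ann K ≤ ann (K ⊔ Subgroup.zpowers v) := by
    intro l hl
    rw [mem_ann]
    intro x hx
    have h2 : K ⊔ Subgroup.zpowers v ≤ l.ker := by
      refine sup_le (fun y hy => hl y hy) ?_
      rw [Subgroup.zpowers_le]
      exact hcon l hl
    exact h2 hx
  have h2 : ann K = ann (K ⊔ Subgroup.zpowers v) := le_antisymm h1 (ann_anti le_sup_left)
  have h3 : K.index = (K ⊔ Subgroup.zpowers v).index := by
    rw [← card_ann (hcomm _), ← card_ann (hcomm _), ← h2]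
  have h4 : K = K ⊔ Subgroup.zpowers v := by
    refine Subgroup.eq_of_le_of_card_ge le_sup_left ?_
    have h5 := K.card_mul_index
    have h6 := (K ⊔ Subgroup.zpowers v).card_mul_index
    rw [← h3] at h6
    have h7 : 0 < K.index := Nat.pos_of_ne_zero K.index_ne_zero_of_finite
    exact (Nat.eq_of_mul_eq_mul_right h7 (h6.trans h5.symm)).le
  exact hv (h4 ▸ (le_sup_right (a := K)) (Subgroup.mem_zpowers v))

theorem sum_ann_apply (hab : ∀ x y : P, x * y = y * x) (K : Subgroup P) [Fintype (ann K)]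
    [DecidablePred (· ∈ K)] (v : P) :
    ∑ l : ann K, (((l : P →* ℂˣ) v : ℂˣ) : ℂ) = if v ∈ K then (Fintype.card (ann K) : ℂ) else 0 := by
  split_ifs with hv
  · rw [Finset.sum_congr rfl (g := fun _ => (1 : ℂ)) fun l _ => by
      rw [l.2 v hv, Units.val_one]]
    simp
  · obtain ⟨l₀, hl₀, h⟩ := exists_apply_ne_one hab hv
    have h1 : ∑ l : ann K, (((l : P →* ℂˣ) v : ℂˣ) : ℂ) =
        ((l₀ v : ℂˣ) : ℂ) * ∑ l : ann K, (((l : P →* ℂˣ) v : ℂˣ) : ℂ) := by
      rw [Finset.mul_sum]
      refine (Fintype.sum_equiv (Equiv.mulLeft (⟨l₀, hl₀⟩ : ann K)) _ _ fun l => ?_).symm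
      rw [Equiv.coe_mulLeft, Subgroup.coe_mul, MonoidHom.mul_apply, Units.val_mul]
    have h2 : (((l₀ v : ℂˣ) : ℂ) - 1) * ∑ l : ann K, (((l : P →* ℂˣ) v : ℂˣ) : ℂ) = 0 := by
      rw [sub_mul, one_mul, ← h1, sub_self]
    rcases mul_eq_zero.1 h2 with h3 | h3
    · exact absurd (Units.val_eq_one.1 (sub_eq_zero.1 h3)) h
    · exact h3

theorem sum_eq_sum_translate [Fintype P] (hab : ∀ x y : P, x * y = y * x) (K : Subgroup P)
    [DecidablePred (· ∈ K)] (g : P → ℂ)
    (hg : ∀ l ∈ ann K, l ≠ 1 → ∑ v : P, ((l v : ℂˣ) : ℂ) * g v = 0) (z : P) :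
    ∑ v with v ∈ K, g v = ∑ v with v ∈ K, g (z * v) := by
  classical
  have hfin : Finite (ann K) := by
    have hc : Nat.card (ann K) ≠ 0 := by
      rw [card_ann (fun x y => by
        rw [hab y x, mul_assoc, mul_inv_cancel, mul_one, inv_mul_cancel]
        exact K.one_mem)]
      exact K.index_ne_zero_of_finite
    exact (Nat.card_ne_zero.1 hc).2
  have := Fintype.ofFinite (ann K)
  have h0 : ∑ l : ann K, (1 - (((l : P →* ℂˣ) z⁻¹ : ℂˣ) : ℂ)) *
      ∑ v : P, (((l : P →* ℂˣ) v : ℂˣ) : ℂ) * g v = 0 := by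
    refine Finset.sum_eq_zero fun l _ => ?_
    by_cases hl : (l : P →* ℂˣ) = 1
    · rw [hl, MonoidHom.one_apply, Units.val_one, sub_self, zero_mul]
    · rw [hg l l.2 hl, mul_zero]
  have h1 : ∑ l : ann K, (1 - (((l : P →* ℂˣ) z⁻¹ : ℂˣ) : ℂ)) *
      ∑ v : P, (((l : P →* ℂˣ) v : ℂˣ) : ℂ) * g v =
      ∑ v : P, g v * (∑ l : ann K, (((l : P →* ℂˣ) v : ℂˣ) : ℂ) -
        ∑ l : ann K, (((l : P →* ℂˣ) (z⁻¹ * v) : ℂˣ) : ℂ)) := by
    rw [Finset.sum_congr rfl fun l _ => Finset.mul_sum _ _ _, Finset.sum_comm]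
    refine Finset.sum_congr rfl fun v _ => ?_
    rw [← Finset.sum_sub_distrib, Finset.mul_sum]
    refine Finset.sum_congr rfl fun l _ => ?_
    rw [map_mul, Units.val_mul]
    ring
  rw [h1] at h0
  simp_rw [sum_ann_apply hab K] at h0
  have hN : (Fintype.card (ann K) : ℂ) ≠ 0 := by
    exact_mod_cast Fintype.card_ne_zero
  have h2 : (Fintype.card (ann K) : ℂ) * (∑ v with v ∈ K, g v - ∑ v with v ∈ K, g (z * v)) = 0 := by
    rw [← h0]
    have h3 : ∑ v with v ∈ K, g (z * v) = ∑ v : P, if z⁻¹ * v ∈ K then g v else 0 := by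
      rw [Finset.sum_filter]
      refine Fintype.sum_equiv (Equiv.mulLeft z) _ _ fun v => ?_
      rw [Equiv.coe_mulLeft, inv_mul_cancel_left]
    rw [h3, Finset.sum_filter, ← Finset.sum_sub_distrib, Finset.mul_sum]
    refine Finset.sum_congr rfl fun v _ => ?_
    split_ifs <;> ring
  rcases mul_eq_zero.1 h2 with h3 | h3
  · exact absurd h3 hN
  · exact sub_eq_zero.1 h3

end

section coprime

/-- Fixed points and commutators of a group of automorphisms of order prime to `p` of an abelian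
`p`-group are disjoint. -/
theorem disjoint_of_coprime' {P : Type*} [CommGroup P] [Finite P] {p : ℕ} [Fact p.Prime]
    (hP : IsPGroup p P) (A : Subgroup (MulAut P)) (hA : ¬ p ∣ Nat.card A) {w : P}
    (hw : w ∈ Subgroup.closure {y : P | ∃ α ∈ A, ∃ x : P, y = x⁻¹ * α x})
    (hfix : ∀ α ∈ A, α w = w) : w = 1 := by
  classical
  have := Fintype.ofFinite P
  have hfin : Finite (MulAut P) := Finite.of_injective (fun e : MulAut P => (e : P → P))
    DFunLike.coe_injective
  have := Fintype.ofFinite A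
  let N : P →* P :=
    { toFun := fun x => ∏ α : A, (α : MulAut P) x
      map_one' := by simp
      map_mul' := fun x y => by
        rw [← Finset.prod_mul_distrib]
        exact Finset.prod_congr rfl fun α _ => map_mul _ _ _ }
  have hN : ∀ x, N x = ∏ α : A, (α : MulAut P) x := fun _ => rfl
  have h1 : Subgroup.closure {y : P | ∃ α ∈ A, ∃ x : P, y = x⁻¹ * α x} ≤ N.ker := by
    rw [Subgroup.closure_le]
    rintro _ ⟨α, hα, x, rfl⟩
    change N (x⁻¹ * α x) = 1
    rw [map_mul, map_inv, inv_mul_eq_one, hN, hN]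
    refine (Fintype.prod_equiv (Equiv.mulRight (⟨α, hα⟩ : A)) _ _ fun β => ?_).symm
    rfl
  have h2 : N w = 1 := h1 hw
  have h3 : N w = w ^ Nat.card A := by
    have h5 : ∀ α : A, (α : MulAut P) w = w := fun α => hfix _ α.2
    rw [hN, Finset.prod_congr rfl (g := fun _ => w) fun α _ => h5 α, Finset.prod_const,
      Finset.card_univ, Nat.card_eq_fintype_card]
  rw [h3] at h2
  obtain ⟨k, hk⟩ := (IsPGroup.iff_orderOf.1 hP) w
  have h4 : orderOf w ∣ Nat.card A := orderOf_dvd_of_pow_eq_one h2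
  rw [hk] at h4
  rcases Nat.eq_zero_or_pos k with h5 | h5
  · rw [h5, pow_zero] at hk
    exact orderOf_eq_one_iff.1 hk
  · exact absurd ((dvd_pow_self p h5.ne').trans h4) hA

theorem disjoint_of_coprime {P : Type*} [Group P] [Finite P] (hab : ∀ x y : P, x * y = y * x)
    {p : ℕ} [Fact p.Prime]
    (hP : IsPGroup p P) (A : Subgroup (MulAut P)) (hA : ¬ p ∣ Nat.card A) {w : P}
    (hw : w ∈ Subgroup.closure {y : P | ∃ α ∈ A, ∃ x : P, y = x⁻¹ * α x})
    (hfix : ∀ α ∈ A, α w = w) : w = 1 :=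
  letI : CommGroup P := { ‹Group P› with mul_comm := hab }
  disjoint_of_coprime' hP A hA hw hfix

end coprime

end Cfsg.Agent.H645.FourierKer
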