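import Mathlib

/-!
# Lifting idempotents over a local ring with split monic polynomials

`R` is a commutative ring with a surjection `red : R → k` onto a field such that elements outside
the kernel are units and monic polynomials over `R` are products of linear factors (`Sys red`).
`A` is an `R`-algebra, finite as a module, `φ : A → B` a surjective ring homomorphism whose kernel
is `ker red • A` (`Red red φ`).

* `exists_fitting` : the Fitting idempotent of `a ∈ A`, a polynomial in `a`;
* `exists_lift` : an element idempotent modulo the kernel is congruent to an idempotent which is a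
  polynomial in it;
* `isUnit_of_map` : units lift;
* `eq_zero_of_map` : an idempotent in the kernel is zero;
* `exists_lift_corner` : lifting inside corners;
* `exists_conj` : idempotents with equivalent images are equivalent;
* `exists_lift_family` : lifting orthogonal decompositions.
-/

set_option autoImplicit false

namespace Cfsg.Agent.H645.Idem

open Polynomial

variable {R : Type*} [CommRing R] {k : Type*} [Field k]

/-- A local ring over which all monic polynomials split. -/
structure Sys (red : R →+* k) : Prop where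
  surj : Function.Surjective red
  unit : ∀ r, red r ≠ 0 → IsUnit r
  split : ∀ f : R[X], f.Monic → ∃ (n : ℕ) (r : Fin n → R), f = ∏ i, (X - C (r i))

variable {red : R →+* k}

/-- The reduction of an algebra. -/
structure Red (red : R →+* k) {A : Type*} [Ring A] [Algebra R A] {B : Type*} [Ring B]
    (φ : A →+* B) : Prop where
  surj : Function.Surjective φ
  smul : ∀ (r : R) (x : A), red r = 0 → φ (r • x) = 0
  ker : ∀ x : A, φ x = 0 → x ∈ (RingHom.ker red) • (⊤ : Submodule R A)

variable {A : Type*} [Ring A] [Algebra R A] {B : Type*} [Ring B] {φ : A →+* B}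

theorem Red.smul_congr (h : Red red φ) {r s : R} (hrs : red r = red s) (x : A) :
    φ (r • x) = φ (s • x) := by
  rw [← sub_eq_zero, ← map_sub, ← sub_smul]
  exact h.smul _ _ (by rw [map_sub, hrs, sub_self])

/-- The algebraic part of the Fitting decomposition. -/
theorem exists_split (hR : Sys red) {n : ℕ} (r : Fin n → R) :
    ∃ g h u v α β : R[X], g * h = ∏ i, (X - C (r i)) ∧ u * g + v * h = 1 ∧ α * X + β * g = 1 ∧
      ∃ m : ℕ, h.map red = X ^ m := by
  classical
  set S := Finset.univ.filter (fun i => red (r i) ≠ 0)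
  set T := Finset.univ.filter (fun i => ¬ red (r i) ≠ 0)
  set g : R[X] := ∏ i ∈ S, (X - C (r i)) with hg
  set h : R[X] := ∏ i ∈ T, (X - C (r i)) with hh
  have hcop : IsCoprime g h := by
    refine IsCoprime.prod_left fun i hi => IsCoprime.prod_right fun j hj => ?_
    refine isCoprime_X_sub_C_of_isUnit_sub (hR.unit _ ?_)
    have hi' := (Finset.mem_filter.1 hi).2
    have hj' := not_not.1 (Finset.mem_filter.1 hj).2
    rwa [map_sub, hj', sub_zero]
  have hX : IsCoprime (X : R[X]) g := by
    refine IsCoprime.prod_right fun i hi => ?_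
    have hi' := (Finset.mem_filter.1 hi).2
    have := isCoprime_X_sub_C_of_isUnit_sub (a := (0 : R)) (b := r i)
      (hR.unit _ (by rw [map_sub, map_zero, zero_sub]; exact neg_ne_zero.2 hi'))
    rwa [C_0, sub_zero] at this
  obtain ⟨u, v, huv⟩ := hcop
  obtain ⟨α, β, hαβ⟩ := hX
  refine ⟨g, h, u, v, α, β, ?_, huv, hαβ, T.card, ?_⟩
  · rw [hg, hh]
    exact Finset.prod_filter_mul_prod_filter_not _ _ _
  · rw [hh, Polynomial.map_prod, Finset.prod_congr rfl (g := fun _ => (X : k[X])),
      Finset.prod_const]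
    intro i hi
    have hi' := not_not.1 (Finset.mem_filter.1 hi).2
    rw [Polynomial.map_sub, map_X, map_C, hi', C_0, sub_zero]

/-- **The Fitting idempotent**. -/
theorem exists_fitting [Module.Finite R A] (hR : Sys red) (hφ : Red red φ) (a : A) :
    ∃ E α : R[X], aeval a E * aeval a E = aeval a E ∧ aeval a α * a * aeval a E = aeval a E ∧
      ∃ m : ℕ, φ (a ^ m * (1 - aeval a E)) = 0 := by
  obtain ⟨f, hf, hfa⟩ := IsIntegral.of_finite R a
  obtain ⟨n, r, hr⟩ := hR.split f hf
  obtain ⟨g, h, u, v, α, β, hgh, huv, hαβ, m, hm⟩ := exists_split hR r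
  have hfa' : aeval a (g * h) = 0 := by
    rw [hgh, ← hr, aeval_def]
    exact hfa
  have hmul : ∀ p : R[X], aeval a (p * (g * h)) = 0 := fun p => by
    rw [map_mul, hfa', mul_zero]
  refine ⟨v * h, α, ?_, ?_, m, ?_⟩
  · rw [← map_mul, ← sub_eq_zero, ← map_sub]
    have : v * h * (v * h) - v * h = -(u * v) * (g * h) := by
      linear_combination (v * h) * huv
    rw [this, hmul]
  · rw [show aeval a α * a = aeval a (α * X) by rw [map_mul, aeval_X], ← map_mul, ← sub_eq_zero,
      ← map_sub]
    have : α * X * (v * h) - v * h = -(β * v) * (g * h) := by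
      linear_combination (v * h) * hαβ
    rw [this, hmul]
  · have h1 : aeval a (h * (1 - v * h)) = 0 := by
      have : h * (1 - v * h) = u * (g * h) := by linear_combination (-h) * huv
      rw [this, hmul]
    have h2 : a ^ m * (1 - aeval a (v * h)) = aeval a ((X ^ m - h) * (1 - v * h)) := by
      rw [sub_mul, map_sub, h1, sub_zero]
      simp
    rw [h2, map_mul, map_mul]
    have h3 : φ (aeval a (X ^ m - h)) = 0 := by
      rw [aeval_eq_sum_range, map_sum]
      refine Finset.sum_eq_zero fun i _ => hφ.smul _ _ ?_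
      have h4 := congrArg (fun q : k[X] => q.coeff i) hm
      simp only [coeff_map] at h4
      rw [coeff_sub, map_sub, h4, coeff_X_pow, coeff_X_pow]
      split_ifs <;> simp
    rw [h3, zero_mul]

/-- **Idempotents lift**, as polynomials in any lift. -/
theorem exists_lift [Module.Finite R A] (hR : Sys red) (hφ : Red red φ) (a : A)
    (ha : φ a * φ a = φ a) :
    ∃ E : R[X], aeval a E * aeval a E = aeval a E ∧ φ (aeval a E) = φ a := by
  obtain ⟨E, α, h1, h2, m, h3⟩ := exists_fitting hR hφ a
  refine ⟨E, h1, ?_⟩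
  have hcomm : ∀ p q : R[X], aeval a p * aeval a q = aeval a q * aeval a p := fun p q => by
    rw [← map_mul, mul_comm, map_mul]
  have hpow : ∀ n : ℕ, φ a ^ (n + 1) = φ a := by
    intro n
    induction n with
    | zero => rw [zero_add, pow_one]
    | succ n ih => rw [pow_succ, ih, ha]
  have h4 : φ a = φ a * φ (aeval a E) := by
    have h5 : φ a ^ (m + 1) * (1 - φ (aeval a E)) = 0 := by
      rw [pow_succ', mul_assoc, ← map_pow, ← map_one φ, ← map_sub, ← map_mul φ (a ^ m), h3,
        mul_zero]
    rw [hpow, mul_sub, mul_one, sub_eq_zero] at h5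
    exact h5
  have h6 : φ (aeval a E) = φ (aeval a α) * φ a := by
    rw [← h2, map_mul, map_mul, mul_assoc, ← h4]
  rw [h4]
  conv_rhs => rw [h6]
  rw [← mul_assoc, ← map_mul, show a * aeval a α = aeval a α * a by
    have := hcomm X α
    rwa [aeval_X] at this, map_mul, mul_assoc, ha, ← h6]

theorem isLocalRing (hR : Sys red) : IsLocalRing R := by
  have : Nontrivial R := red.domain_nontrivial
  refine IsLocalRing.of_isUnit_or_isUnit_one_sub_self fun a => ?_
  by_cases h : red a = 0
  · right
    exact hR.unit _ (by rw [map_sub, map_one, h, sub_zero]; exact one_ne_zero)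
  · exact Or.inl (hR.unit a h)

theorem ker_le_jacobson (hR : Sys red) : RingHom.ker red ≤ Ideal.jacobson (⊥ : Ideal R) := by
  intro r hr
  rw [RingHom.mem_ker] at hr
  rw [Ideal.mem_jacobson_bot]
  intro y
  exact hR.unit _ (by rw [map_add, map_mul, hr, zero_mul, zero_add, map_one]; exact one_ne_zero)

/-- **Units lift.** -/
theorem isUnit_of_map [Module.Finite R A] (hR : Sys red) (hφ : Red red φ) {x : A}
    (hx : IsUnit (φ x)) : IsUnit x := by
  obtain ⟨y, hy⟩ := hx
  obtain ⟨z, hz⟩ := hφ.surj (y⁻¹ : Bˣ)
  -- a right inverse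
  have hright : ∀ w : A, φ w = 1 → ∃ t, w * t = 1 := by
    intro w hw
    have h1 : (⊤ : Submodule R A) ≤ LinearMap.range (LinearMap.mulLeft R w) := by
      refine Submodule.le_of_le_smul_of_le_jacobson_bot Module.Finite.fg_top (ker_le_jacobson hR) ?_
      intro t _
      have h2 : t - w * t ∈ RingHom.ker red • (⊤ : Submodule R A) := by
        refine hφ.ker _ ?_
        rw [map_sub, map_mul, hw, one_mul, sub_self]
      rw [show t = w * t + (t - w * t) by abel]
      exact Submodule.add_mem_sup ⟨t, rfl⟩ h2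
    obtain ⟨t, ht⟩ := h1 (Submodule.mem_top (x := (1 : A)))
    exact ⟨t, ht⟩
  have hleft : ∀ w : A, φ w = 1 → ∃ t, t * w = 1 := by
    intro w hw
    have h1 : (⊤ : Submodule R A) ≤ LinearMap.range (LinearMap.mulRight R w) := by
      refine Submodule.le_of_le_smul_of_le_jacobson_bot Module.Finite.fg_top (ker_le_jacobson hR) ?_
      intro t _
      have h2 : t - t * w ∈ RingHom.ker red • (⊤ : Submodule R A) := by
        refine hφ.ker _ ?_
        rw [map_sub, map_mul, hw, mul_one, sub_self]
      rw [show t = t * w + (t - t * w) by abel]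
      exact Submodule.add_mem_sup ⟨t, rfl⟩ h2
    obtain ⟨t, ht⟩ := h1 (Submodule.mem_top (x := (1 : A)))
    exact ⟨t, ht⟩
  obtain ⟨t, ht⟩ := hright (x * z) (by rw [map_mul, hz, ← hy, Units.mul_inv])
  obtain ⟨s, hs⟩ := hleft (z * x) (by rw [map_mul, hz, ← hy, Units.inv_mul])
  rw [mul_assoc] at ht
  rw [← mul_assoc] at hs
  exact isUnit_iff_exists.2 ⟨z * t, ht, by rw [← left_inv_eq_right_inv hs ht]; exact hs⟩

/-- An idempotent in the kernel is zero. -/
theorem eq_zero_of_map [Module.Finite R A] (hR : Sys red) (hφ : Red red φ) {e : A}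
    (he : e * e = e) (h0 : φ e = 0) : e = 0 := by
  have h1 : IsUnit (1 - e) := isUnit_of_map hR hφ (by
    rw [map_sub, map_one, h0, sub_zero]; exact isUnit_one)
  have h2 : (1 - e) * e = 0 := by rw [sub_mul, one_mul, he, sub_self]
  exact (h1.mul_right_eq_zero).1 h2

/-- Lifting an idempotent inside a corner. -/
theorem exists_lift_corner [Module.Finite R A] (hR : Sys red) (hφ : Red red φ) {f : A}
    (hf : f * f = f) (a : A) (ha : φ a * φ a = φ a) (h1 : φ f * φ a = φ a)
    (h2 : φ a * φ f = φ a) :
    ∃ E : R[X], ∀ e, e = aeval (f * a * f) E * f → e * e = e ∧ f * e = e ∧ e * f = e ∧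
      φ e = φ a := by
  have h3 : φ (f * a * f) = φ a := by rw [map_mul, map_mul, h1, h2]
  obtain ⟨E, hE, hE'⟩ := exists_lift hR hφ (f * a * f) (by rw [h3, ha])
  refine ⟨E, ?_⟩
  rintro e rfl
  have hcomm : f * aeval (f * a * f) E = aeval (f * a * f) E * f := by
    have h4 : Commute f (f * a * f) := by
      change f * (f * a * f) = f * a * f * f
      rw [← mul_assoc, ← mul_assoc, hf, mul_assoc _ f f, hf]
    have h5 : aeval (f * a * f) E ∈ Algebra.adjoin R {f * a * f} :=
      aeval_mem_adjoin_singleton R _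
    have := Algebra.commute_of_mem_adjoin_of_forall_mem_commute (R := R) (s := {f * a * f})
      (a := f) h5 (by
        rintro b hb
        rw [Set.mem_singleton_iff] at hb
        rw [hb]
        exact h4)
    exact this
  refine ⟨?_, ?_, ?_, ?_⟩
  · rw [mul_assoc, ← mul_assoc f, hcomm, mul_assoc (aeval _ _) f f, hf, ← mul_assoc, hE]
  · rw [← mul_assoc, hcomm, mul_assoc, hf]
  · rw [mul_assoc, hf]
  · rw [map_mul, hE', h3, h2]

/-- Elements of a corner invertible modulo the kernel are invertible in the corner. -/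
theorem exists_inv_corner [Module.Finite R A] (hR : Sys red) (hφ : Red red φ) {f x : A}
    (hf : f * f = f) (h1 : f * x = x) (h2 : x * f = x) (hx : φ x = φ f) :
    ∃ w : A, f * w = w ∧ w * f = w ∧ x * w = f ∧ w * x = f := by
  have hu : IsUnit (x + (1 - f)) := isUnit_of_map hR hφ (by
    rw [map_add, map_sub, hx, map_one, add_sub_cancel]; exact isUnit_one)
  obtain ⟨w, hw1, hw2⟩ := isUnit_iff_exists.1 hu
  have hfc : f * (x + (1 - f)) = x := by rw [mul_add, h1, mul_sub, mul_one, hf, sub_self, add_zero]
  have hcf : (x + (1 - f)) * f = x := by rw [add_mul, h2, sub_mul, one_mul, hf, sub_self, add_zero]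
  have e1 : x * w = f := by rw [← hfc, mul_assoc, hw1, mul_one]
  have e2 : w * x = f := by
    rw [← hcf, ← mul_assoc, hw2, one_mul]
  have e3 : w * f = f * w := by
    calc w * f = w * f * ((x + (1 - f)) * w) := by rw [hw1, mul_one]
      _ = w * (f * (x + (1 - f))) * w := by simp only [mul_assoc]
      _ = w * x * w := by rw [hfc]
      _ = f * w := by rw [e2]
  refine ⟨f * w, by rw [← mul_assoc, hf], by rw [mul_assoc, e3, ← mul_assoc, hf], ?_, ?_⟩
  · rw [← mul_assoc, h2, e1]
  · rw [← e3, mul_assoc, h1, e2]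

/-- Idempotents with equivalent images are equivalent. -/
theorem exists_conj [Module.Finite R A] (hR : Sys red) (hφ : Red red φ) {e f : A}
    (he : e * e = e) (hf : f * f = f) {x y : B} (hx : φ e * x * φ f = x) (hy : φ f * y * φ e = y)
    (hxy : x * y = φ e) (hyx : y * x = φ f) :
    ∃ x' y' : A, e * x' = x' ∧ x' * f = x' ∧ f * y' = y' ∧ y' * e = y' ∧ x' * y' = e ∧
      y' * x' = f ∧ φ x' = x := by
  obtain ⟨x₀, hx₀⟩ := hφ.surj x
  obtain ⟨y₀, hy₀⟩ := hφ.surj y
  set x₁ := e * x₀ * f with hx₁
  set y₁ := f * y₀ * e with hy₁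
  have hφx : φ x₁ = x := by rw [hx₁, map_mul, map_mul, hx₀, hx]
  have hφy : φ y₁ = y := by rw [hy₁, map_mul, map_mul, hy₀, hy]
  have ex : e * x₁ = x₁ := by rw [hx₁, ← mul_assoc, ← mul_assoc, he]
  have xf : x₁ * f = x₁ := by rw [hx₁, mul_assoc, hf]
  have fy : f * y₁ = y₁ := by rw [hy₁, ← mul_assoc, ← mul_assoc, hf]
  have ye : y₁ * e = y₁ := by rw [hy₁, mul_assoc, he]
  clear_value x₁ y₁
  obtain ⟨w, hw1, hw2, hw3, hw4⟩ := exists_inv_corner hR hφ (f := f) (x := y₁ * x₁) hf
    (by rw [← mul_assoc, fy]) (by rw [mul_assoc, xf]) (by rw [map_mul, hφx, hφy, hyx])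
  refine ⟨x₁, w * y₁, ex, xf, by rw [← mul_assoc, hw1], by rw [mul_assoc, ye], ?_, by
    rw [mul_assoc, hw4], hφx⟩
  -- `x₁ w y₁` is an idempotent of `e A e` congruent to `e`
  set d := x₁ * (w * y₁) with hd
  have hed : e * d = d := by rw [hd, ← mul_assoc, ex]
  have hde : d * e = d := by rw [hd, mul_assoc, mul_assoc, ye]
  have hdd : d * d = d := by
    calc d * d = x₁ * (w * (y₁ * x₁)) * (w * y₁) := by rw [hd]; simp only [mul_assoc]
      _ = x₁ * (w * y₁) := by rw [hw4, xf]
      _ = d := rfl
  have hw : φ w = φ f := by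
    have h1 : φ (y₁ * x₁) * φ w = φ f := by rw [← map_mul, hw3]
    rw [map_mul, hφx, hφy, hyx, ← map_mul, hw1] at h1
    exact h1
  have h0 : φ (e - d) = 0 := by
    rw [map_sub, hd, map_mul, map_mul, hw, ← map_mul φ f y₁, fy, hφx, hφy, hxy, sub_self]
  have h1 : e - d = 0 := by
    refine eq_zero_of_map hR hφ ?_ h0
    rw [sub_mul, mul_sub, mul_sub, he, hed, hde, hdd]
    abel
  exact (sub_eq_zero.1 h1).symm

/-- Lifting an orthogonal decomposition of an idempotent. -/
theorem exists_lift_family [Module.Finite R A] (hR : Sys red) (hφ : Red red φ) {n : ℕ} :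
    ∀ {f : A} (_ : f * f = f) (b : Fin n → B) (_ : ∀ i, b i * b i = b i)
      (_ : ∀ i j, i ≠ j → b i * b j = 0) (_ : ∑ i, b i = φ f),
      ∃ e : Fin n → A, (∀ i, e i * e i = e i) ∧ (∀ i j, i ≠ j → e i * e j = 0) ∧
        (∑ i, e i = f) ∧ ∀ i, φ (e i) = b i := by
  induction n with
  | zero =>
    intro f hf b _ _ hsum
    rw [Finset.univ_eq_empty, Finset.sum_empty] at hsum
    refine ⟨fun i => i.elim0, fun i => i.elim0, fun i => i.elim0, ?_, fun i => i.elim0⟩
    rw [Finset.univ_eq_empty, Finset.sum_empty, eq_zero_of_map hR hφ hf hsum.symm]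
  | succ n ih =>
    intro f hf b hb horth hsum
    obtain ⟨a, ha⟩ := hφ.surj (b 0)
    have hsum' := hsum
    rw [Fin.sum_univ_succ] at hsum
    have h1 : φ f * φ a = φ a := by
      rw [ha, ← hsum, add_mul, hb, Finset.sum_mul, Finset.sum_eq_zero, add_zero]
      intro i _
      exact horth _ _ (Fin.succ_ne_zero i)
    have h2 : φ a * φ f = φ a := by
      rw [ha, ← hsum, mul_add, hb, Finset.mul_sum, Finset.sum_eq_zero, add_zero]
      intro i _
      exact horth _ _ (Fin.succ_ne_zero i).symm
    obtain ⟨E, hE⟩ := exists_lift_corner hR hφ hf a (by rw [ha, hb]) h1 h2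
    obtain ⟨he, hfe, hef, hφe⟩ := hE _ rfl
    set e₀ := aeval (f * a * f) E * f with he₀
    clear_value e₀
    have hf' : (f - e₀) * (f - e₀) = f - e₀ := by
      rw [sub_mul, mul_sub, mul_sub, hf, hfe, hef, he, sub_self, sub_zero]
    obtain ⟨e, hee, heo, hes, heφ⟩ := ih hf' (fun i => b i.succ) (fun i => hb _)
      (fun i j hij => horth _ _ fun h => hij (Fin.succ_injective _ h)) (by
        rw [map_sub, hφe, ha, ← hsum, add_sub_cancel_left])
    have h3 : ∀ i, e i * (f - e₀) = e i := by
      intro i
      rw [← hes, Finset.mul_sum, Finset.sum_eq_single i]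
      · exact hee i
      · intro j _ hj
        exact heo i j hj.symm
      · exact fun h => absurd (Finset.mem_univ _) h
    have h4 : ∀ i, (f - e₀) * e i = e i := by
      intro i
      rw [← hes, Finset.sum_mul, Finset.sum_eq_single i]
      · exact hee i
      · intro j _ hj
        exact heo j i hj
      · exact fun h => absurd (Finset.mem_univ _) h
    have h5 : ∀ i, e i * e₀ = 0 := fun i => by
      rw [← h3 i, mul_assoc, sub_mul, hfe, he, sub_self, mul_zero]
    have h6 : ∀ i, e₀ * e i = 0 := fun i => by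
      rw [← h4 i, ← mul_assoc, mul_sub, hef, he, sub_self, zero_mul]
    refine ⟨Fin.cons e₀ e, ?_, ?_, ?_, ?_⟩
    · intro i
      refine Fin.cases ?_ (fun i => ?_) i
      · simpa using he
      · simpa using hee i
    · intro i j
      refine Fin.cases ?_ (fun i => ?_) i <;> refine Fin.cases ?_ (fun j => ?_) j
      · intro h
        exact absurd rfl h
      · intro _
        simpa using h6 j
      · intro _
        simpa using h5 i
      · intro h
        simpa using heo i j fun h' => h (by rw [h'])
    · rw [Fin.sum_univ_succ]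
      simp only [Fin.cons_zero, Fin.cons_succ]
      rw [hes, add_sub_cancel]
    · intro i
      refine Fin.cases ?_ (fun i => ?_) i
      · simpa using hφe.trans ha
      · simpa using heφ i

end Cfsg.Agent.H645.Idem
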