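import Cfsg.Agent.H645.Idem
import Cfsg.Agent.Blocks.Local
import Cfsg.Agent.Blocks.Twist
import Cfsg.Agent.H644.Center

/-!
# The local ring at `M` splits monic polynomials; group algebras over it

* `sys` : `Idem.Sys (red M)` for the local ring at `M` and its residue field;
* `mapR` : `localRing M [G] → ResField M [G]` and `redMap` : it satisfies `Idem.Red`, so that
  `Idem.exists_lift`, `exists_lift_family`, `exists_lift_corner`, `exists_conj` apply;
* `mapC` : `localRing M [G] → ℂ[G]`, injective, with image the elements with `Twist.MemR M`;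
* `exists_lift_conv` : orthogonal decompositions lift, in terms of convolution of functions.
-/

set_option autoImplicit false
set_option linter.unusedSectionVars false
set_option linter.style.haveILetI false

open Cfsg

namespace Cfsg.Agent.H645.IdemSys

open Cfsg.Agent.Blocks.Local Polynomial Idem

variable {M : Ideal AlgInt}

theorem exists_denom [M.IsPrime] (c : ℕ → ℂ) (n : ℕ) (h : ∀ j < n, MemLocalRing M (c j)) :
    ∃ s : AlgInt, s ∉ M ∧ ∀ j < n, IsIntegral ℤ ((s : ℂ) * c j) := by
  induction n with
  | zero => exact ⟨1, one_notMem, fun j hj => absurd hj (Nat.not_lt_zero j)⟩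
  | succ n ih =>
    obtain ⟨s, hs, hs'⟩ := ih fun j hj => h j (by omega)
    obtain ⟨a, b, hb, hab⟩ := h n (by omega)
    have hb0 := coe_ne_zero_of_notMem hb
    refine ⟨s * b, mul_notMem hs hb, fun j hj => ?_⟩
    rcases Nat.lt_succ_iff_lt_or_eq.1 hj with hj | rfl
    · rw [show ((s * b : AlgInt) : ℂ) * c j = (b : ℂ) * ((s : ℂ) * c j) by push_cast; ring]
      exact b.2.mul (hs' j hj)
    · rw [← hab, show ((s * b : AlgInt) : ℂ) * ((a : ℂ) / (b : ℂ)) = (s : ℂ) * (a : ℂ) by
        push_cast; field_simp]
      exact s.2.mul a.2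

/-- The local ring at `M` is integrally closed in `ℂ`. -/
theorem memLocalRing_of_root [M.IsPrime] (c : ℕ → ℂ) (n : ℕ) (h : ∀ j < n, MemLocalRing M (c j))
    {z : ℂ} (hz : z ^ n + ∑ j ∈ Finset.range n, c j * z ^ j = 0) : MemLocalRing M z := by
  obtain ⟨s, hs, hs'⟩ := exists_denom c n h
  have hs0 := coe_ne_zero_of_notMem hs
  -- integral coefficients
  have hd : ∀ j, ∃ d : AlgInt, j < n → (d : ℂ) = c j * (s : ℂ) ^ (n - j) := by
    intro j
    by_cases hj : j < n
    · refine ⟨⟨((s : ℂ) * c j) * (s : ℂ) ^ (n - j - 1), (hs' j hj).mul (s.2.pow _)⟩, fun _ => ?_⟩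
      change ((s : ℂ) * c j) * (s : ℂ) ^ (n - j - 1) = _
      obtain ⟨r, hr⟩ : ∃ r, n - j = r + 1 := ⟨n - j - 1, by omega⟩
      rw [hr, Nat.add_sub_cancel, pow_succ]
      ring
    · exact ⟨0, fun h => absurd h hj⟩
  choose d hd using hd
  have hint : IsIntegral AlgInt ((s : ℂ) * z) := by
    refine ⟨X ^ n + ∑ j ∈ Finset.range n, C (d j) * X ^ j, ?_, ?_⟩
    · refine monic_X_pow_add ?_
      refine (degree_sum_le _ _).trans_lt ?_
      rw [Finset.sup_lt_iff (by exact WithBot.bot_lt_coe n)]
      intro j hj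
      exact (degree_C_mul_X_pow_le j (d j)).trans_lt (by exact_mod_cast Finset.mem_range.1 hj)
    · rw [eval₂_add, eval₂_pow, eval₂_X, eval₂_finsetSum]
      have h1 : ∀ j ∈ Finset.range n, eval₂ (algebraMap AlgInt ℂ) ((s : ℂ) * z) (C (d j) * X ^ j) =
          (s : ℂ) ^ n * (c j * z ^ j) := by
        intro j hj
        have hj' := Finset.mem_range.1 hj
        rw [eval₂_mul, eval₂_C, eval₂_pow, eval₂_X]
        change (d j : ℂ) * _ = _
        rw [hd j hj', mul_pow]
        have : (s : ℂ) ^ n = (s : ℂ) ^ (n - j) * (s : ℂ) ^ j := by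
          rw [← pow_add]; congr 1; omega
        rw [this]
        ring
      rw [Finset.sum_congr rfl h1, ← Finset.mul_sum, mul_pow, ← mul_add, hz, mul_zero]
  have hint' : IsIntegral ℤ ((s : ℂ) * z) := isIntegral_trans _ hint
  have h1 : z = ((⟨(s : ℂ) * z, hint'⟩ : AlgInt) : ℂ) / (s : ℂ) := by
    change z = (s : ℂ) * z / (s : ℂ)
    field_simp
  exact ⟨⟨(s : ℂ) * z, hint'⟩, s, hs, h1.symm⟩

/-- The local ring at `M` and its residue field. -/
theorem sys [M.IsPrime] : Sys (red M) where
  surj := red_surjective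
  unit := by
    intro r hr
    rw [ne_eq, red_eq_zero_iff] at hr
    have h0 := ne_zero_of_not_memLocalIdeal hr
    refine isUnit_iff_exists_inv.2 ⟨⟨(r : ℂ)⁻¹, memLocalRing_inv r.2 hr⟩, ?_⟩
    apply Subtype.ext
    change (r : ℂ) * (r : ℂ)⁻¹ = 1
    exact mul_inv_cancel₀ h0
  split := by
    intro f hf
    set F : ℂ[X] := f.map (localRing M).subtype with hF
    have hFm : F.Monic := hf.map _
    have hsplit := IsAlgClosed.splits F
    have hroot : ∀ z ∈ F.roots, MemLocalRing M z := by
      intro z hz
      have hz0 : F.eval z = 0 := (mem_roots hFm.ne_zero).1 hz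
      refine memLocalRing_of_root (fun j => F.coeff j) F.natDegree (fun j _ => ?_) ?_
      · rw [hF, coeff_map]
        exact (f.coeff j).2
      · rw [eval_eq_sum_range, Finset.sum_range_succ, hFm.coeff_natDegree, one_mul] at hz0
        rw [add_comm]
        exact hz0
    have hprod : F = (F.roots.map fun z => X - C z).prod := by
      have := hsplit.eq_prod_roots
      rwa [hFm.leadingCoeff, C_1, one_mul] at this
    -- list the roots
    set l := F.roots.toList with hl
    have hlmem : ∀ i : Fin l.length, MemLocalRing M (l.get i) := fun i =>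
      hroot _ (Multiset.mem_toList.1 (l.get_mem i))
    refine ⟨l.length, fun i => ⟨l.get i, hlmem i⟩, ?_⟩
    apply map_injective (localRing M).subtype Subtype.val_injective
    rw [Polynomial.map_prod, ← hF]
    conv_lhs => rw [hprod]
    rw [← Multiset.coe_toList F.roots, Multiset.map_coe, Multiset.prod_coe, ← hl]
    conv_lhs => rw [← List.ofFn_get l]
    rw [List.map_ofFn, List.prod_ofFn]
    refine Finset.prod_congr rfl fun i _ => ?_
    simp

variable {G : Type*} [Group G]

theorem ext_coeff {R : Type*} [Semiring R] {x y : MonoidAlgebra R G}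
    (h : ∀ g, x.coeff g = y.coeff g) : x = y :=
  MonoidAlgebra.coeff_injective (Finsupp.ext h)

/-- Reduction of the group algebra. -/
noncomputable def mapR (M : Ideal AlgInt) [M.IsPrime] (G : Type*) [Group G] :
    MonoidAlgebra (localRing M) G →+* MonoidAlgebra (ResField M) G :=
  MonoidAlgebra.mapRingHom G (red M)

/-- Extension of scalars of the group algebra. -/
noncomputable def mapC (M : Ideal AlgInt) [M.IsPrime] (G : Type*) [Group G] :
    MonoidAlgebra (localRing M) G →+* MonoidAlgebra ℂ G :=
  MonoidAlgebra.mapRingHom G (localRing M).subtype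

@[simp]
theorem coeff_mapR [M.IsPrime] (x : MonoidAlgebra (localRing M) G) (g : G) :
    (mapR M G x).coeff g = red M (x.coeff g) := by
  rw [mapR, MonoidAlgebra.coeff_mapRingHom]

@[simp]
theorem coeff_mapC [M.IsPrime] (x : MonoidAlgebra (localRing M) G) (g : G) :
    (mapC M G x).coeff g = (x.coeff g : ℂ) := by
  rw [mapC, MonoidAlgebra.coeff_mapRingHom]
  rfl

theorem mapC_injective [M.IsPrime] : Function.Injective (mapC M G) := by
  intro x y h
  apply ext_coeff
  intro g
  apply Subtype.ext
  rw [← coeff_mapC, ← coeff_mapC, h]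

theorem memR_mapC [M.IsPrime] (x : MonoidAlgebra (localRing M) G) :
    Cfsg.Agent.Blocks.Twist.MemR M (mapC M G x) := fun g => by
  rw [coeff_mapC]
  exact (x.coeff g).2

theorem redC_coeff_mapC [M.IsPrime] (x : MonoidAlgebra (localRing M) G) (g : G) :
    redC M ((mapC M G x).coeff g) = (mapR M G x).coeff g := by
  rw [coeff_mapC, coeff_mapR]
  exact redC_coe _

variable [Finite G]

/-- The element of the group algebra over the local ring with the given coefficients. -/
noncomputable def ofR [M.IsPrime] (f : G → localRing M) : MonoidAlgebra (localRing M) G :=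
  MonoidAlgebra.ofCoeff (Finsupp.equivFunOnFinite.symm f)

@[simp]
theorem coeff_ofR [M.IsPrime] (f : G → localRing M) (g : G) : (ofR f).coeff g = f g := rfl

theorem exists_mapC_eq [M.IsPrime] {x : MonoidAlgebra ℂ G}
    (hx : Cfsg.Agent.Blocks.Twist.MemR M x) : ∃ y, mapC M G y = x :=
  ⟨ofR fun g => ⟨x.coeff g, hx g⟩, ext_coeff fun g => by rw [coeff_mapC, coeff_ofR]⟩

/-- `localRing M [G] → ResField M [G]` is a reduction. -/
theorem redMap [M.IsPrime] : Red (red M) (mapR M G) where
  surj := by
    intro y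
    choose r hr using fun g => red_surjective (y.coeff g)
    exact ⟨ofR r, ext_coeff fun g => by rw [coeff_mapR, coeff_ofR, hr]⟩
  smul := by
    intro r x hr
    apply ext_coeff
    intro g
    rw [coeff_mapR, MonoidAlgebra.coeff_smul, Finsupp.smul_apply, smul_eq_mul, map_mul, hr,
      zero_mul]
    rfl
  ker := by
    intro x hx
    have h1 : ∀ g, red M (x.coeff g) = 0 := fun g => by
      rw [← coeff_mapR, hx]; rfl
    haveI := Fintype.ofFinite G
    have h2 : x = ∑ g : G, x.coeff g • MonoidAlgebra.single g (1 : localRing M) := by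
      classical
      apply ext_coeff
      intro g
      rw [MonoidAlgebra.coeff_sum, Finsupp.finsetSum_apply, Finset.sum_eq_single g]
      · rw [MonoidAlgebra.coeff_smul, Finsupp.smul_apply, MonoidAlgebra.coeff_single,
          Finsupp.single_eq_same, smul_eq_mul, mul_one]
      · intro h _ hh
        rw [MonoidAlgebra.coeff_smul, Finsupp.smul_apply, MonoidAlgebra.coeff_single,
          Finsupp.single_eq_of_ne hh.symm, smul_zero]
      · exact fun h => absurd (Finset.mem_univ _) h
    rw [h2]
    exact Submodule.sum_mem _ fun g _ => Submodule.smul_mem_smul (h1 g) Submodule.mem_top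

instance moduleFinite [M.IsPrime] :
    Module.Finite (localRing M) (MonoidAlgebra (localRing M) G) := by
  haveI := Fintype.ofFinite G
  infer_instance

theorem mapR_eq_toK [M.IsPrime] (x : MonoidAlgebra (localRing M) G) :
    mapR M G x = H644.toK M fun g => (mapC M G x).coeff g := by
  apply ext_coeff
  intro g
  rw [H644.coeff_toK, redC_coeff_mapC]

theorem mkA_conv [Fintype G] (f f' : G → ℂ) :
    (H644.mkA (Cfsg.Agent.Blocks.ConvCentral.conv f f') : MonoidAlgebra ℂ G) =
      H644.mkA f * H644.mkA f' := by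
  apply ext_coeff
  intro g
  rw [H644.coeff_mul_eq_sum, H644.coeff_mkA, Cfsg.Agent.Blocks.ConvCentral.conv_apply]
  rfl

/-- Lifting an orthogonal decomposition, in terms of complex-valued functions and convolution. -/
theorem exists_lift_conv [Fintype G] [M.IsPrime] {n : ℕ} {f : G → ℂ}
    (hfR : ∀ g, MemLocalRing M (f g)) (hf : Cfsg.Agent.Blocks.ConvCentral.conv f f = f)
    (b : Fin n → MonoidAlgebra (ResField M) G) (hb : ∀ i, b i * b i = b i)
    (horth : ∀ i j, i ≠ j → b i * b j = 0) (hsum : ∑ i, b i = H644.toK M f) :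
    ∃ e : Fin n → G → ℂ, (∀ i g, MemLocalRing M (e i g)) ∧
      (∀ i, Cfsg.Agent.Blocks.ConvCentral.conv (e i) (e i) = e i) ∧
      (∀ i j, i ≠ j → Cfsg.Agent.Blocks.ConvCentral.conv (e i) (e j) = 0) ∧
      (∑ i, e i = f) ∧ ∀ i, H644.toK M (e i) = b i := by
  set F : MonoidAlgebra (localRing M) G := ofR fun g => ⟨f g, hfR g⟩ with hF
  have hFC : mapC M G F = H644.mkA f := by
    apply ext_coeff
    intro g
    rw [coeff_mapC, hF, coeff_ofR, H644.coeff_mkA]
  have hFR : mapR M G F = H644.toK M f := by
    rw [mapR_eq_toK, hFC]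
    rfl
  have hFF : F * F = F := by
    apply mapC_injective
    rw [map_mul, hFC, ← mkA_conv, hf]
  obtain ⟨e, he, ho, hs, hr⟩ := exists_lift_family sys redMap hFF b hb horth
    (by rw [hsum, hFR])
  have key : ∀ x : MonoidAlgebra (localRing M) G,
      (H644.mkA fun g => (mapC M G x).coeff g) = mapC M G x := fun x => H644.mkA_coeff _
  have inj : ∀ u v : G → ℂ, (H644.mkA u : MonoidAlgebra ℂ G) = H644.mkA v → u = v := by
    intro u v h
    funext g
    rw [← H644.coeff_mkA u g, h, H644.coeff_mkA]
  refine ⟨fun i g => (mapC M G (e i)).coeff g, fun i g => memR_mapC _ _, fun i => ?_,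
    fun i j hij => ?_, ?_, fun i => ?_⟩
  · apply inj
    rw [mkA_conv, key, ← map_mul, he]
  · apply inj
    rw [mkA_conv, key, key, ← map_mul, ho i j hij, map_zero]
    apply ext_coeff
    intro g
    rw [H644.coeff_mkA]
    rfl
  · funext g
    rw [Finset.sum_apply]
    have := congrArg (fun x => (mapC M G x).coeff g) hs
    simp only [map_sum, hFC, H644.coeff_mkA] at this
    rw [← this, MonoidAlgebra.coeff_sum, Finsupp.finsetSum_apply]
  · rw [← mapR_eq_toK, hr]

end Cfsg.Agent.H645.IdemSys
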