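import Mathlib

/-!
# Symmetric local algebras with a small centre (Külshammer)

`A` is a `k`-algebra, `J` a finite-dimensional nilpotent multiplicatively closed subspace, `s` a
trace form such that an element of `J` annihilating `J` on the right and killed by `s` is zero
(this holds when `J` is the radical of a symmetric local subalgebra `k e + J`).  If the span `K` of
the commutators has codimension at most `3` in `J`, then `J` is commutative.
-/

set_option autoImplicit false

namespace Cfsg.Agent.H645.LocalAlg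

open Module

variable {k : Type*} [Field k] {A : Type*} [Ring A] [Algebra k A]

/-- The span of the commutators of elements of `J`. -/
def comm (J : Submodule k A) : Submodule k A :=
  Submodule.span k {z | ∃ x ∈ J, ∃ y ∈ J, z = x * y - y * x}

theorem comm_le (J : Submodule k A) : comm J ≤ J ^ 2 := by
  rw [comm, Submodule.span_le]
  rintro z ⟨x, hx, y, hy, rfl⟩
  rw [pow_two]
  exact Submodule.sub_mem _ (Submodule.mul_mem_mul hx hy) (Submodule.mul_mem_mul hy hx)

theorem trace_comm (J : Submodule k A) (s : A →ₗ[k] k) (hs : ∀ x y, s (x * y) = s (y * x))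
    {z : A} (hz : z ∈ comm J) : s z = 0 := by
  have : comm J ≤ LinearMap.ker s := by
    rw [comm, Submodule.span_le]
    rintro z ⟨x, -, y, -, rfl⟩
    rw [SetLike.mem_coe, LinearMap.mem_ker, map_sub, hs, sub_self]
  exact LinearMap.mem_ker.1 (this hz)

theorem pow_antitone {J : Submodule k A} (hJ : J * J ≤ J) {m n : ℕ} (hm : 1 ≤ m) (h : m ≤ n) :
    J ^ n ≤ J ^ m := by
  induction n, h using Nat.le_induction with
  | base => exact le_rfl
  | succ n hmn ih =>
    refine le_trans ?_ ih
    obtain ⟨n', rfl⟩ : ∃ n', n = n' + 1 := ⟨n - 1, by omega⟩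
    rw [pow_succ, pow_succ, mul_assoc]
    exact mul_le_mul_right hJ _

theorem pow_add_le (V J : Submodule k A) (hJ : J * J ≤ J) (hV : V ≤ J) (hJV : J ≤ V ⊔ J ^ 2) (m : ℕ) :
    J ^ (m + 1) ≤ V ^ (m + 1) ⊔ J ^ (m + 2) := by
  induction m with
  | zero => simpa using hJV
  | succ m ih =>
    calc J ^ (m + 1 + 1) = J * J ^ (m + 1) := by rw [pow_succ']
      _ ≤ (V ⊔ J ^ 2) * (V ^ (m + 1) ⊔ J ^ (m + 2)) := mul_le_mul' hJV ih
      _ = V * V ^ (m + 1) ⊔ V * J ^ (m + 2) ⊔ (J ^ 2 * V ^ (m + 1) ⊔ J ^ 2 * J ^ (m + 2)) := by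
        rw [Submodule.sup_mul, Submodule.mul_sup, Submodule.mul_sup]
      _ ≤ V ^ (m + 1 + 1) ⊔ J ^ (m + 1 + 2) := by
        have h1 : V ^ (m + 1) ≤ J ^ (m + 1) := pow_le_pow_left' hV _
        refine sup_le (sup_le ?_ ?_) (sup_le ?_ ?_)
        · rw [← pow_succ']; exact le_sup_left
        · refine le_trans ?_ le_sup_right
          calc V * J ^ (m + 2) ≤ J * J ^ (m + 2) := mul_le_mul_left hV _
            _ = J ^ (m + 1 + 2) := by rw [← pow_succ']
        · refine le_trans ?_ le_sup_right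
          calc J ^ 2 * V ^ (m + 1) ≤ J ^ 2 * J ^ (m + 1) := mul_le_mul_right h1 _
            _ = J ^ (m + 1 + 2) := by rw [← pow_add]; congr 1; omega
        · refine le_trans ?_ le_sup_right
          rw [← pow_add]
          exact pow_antitone hJ (by omega) (by omega)

/-- If `J = k x + J ^ 2` then `J` is commutative. -/
theorem comm_of_span_singleton {J : Submodule k A} (hJ : J * J ≤ J) {N : ℕ} (hN : J ^ N = ⊥)
    (x : A) (hx : x ∈ J) (hJx : J ≤ Submodule.span k {x} ⊔ J ^ 2) :
    ∀ y ∈ J, ∀ z ∈ J, y * z = z * y := by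
  have key : ∀ m : ℕ, J ≤ (Algebra.adjoin k {x}).toSubmodule ⊔ J ^ (m + 1) := by
    intro m
    induction m with
    | zero => simp
    | succ m ih =>
      refine ih.trans (sup_le le_sup_left ?_)
      refine (pow_add_le (Submodule.span k {x}) J hJ
        (Submodule.span_le.2 (Set.singleton_subset_iff.2 hx)) hJx m).trans ?_
      refine sup_le_sup ?_ le_rfl
      have h1 : Submodule.span k {x} ≤ (Algebra.adjoin k {x}).toSubmodule :=
        Submodule.span_le.2 Algebra.subset_adjoin
      have h2 : ∀ n : ℕ, Submodule.span k {x} ^ (n + 1) ≤ (Algebra.adjoin k {x}).toSubmodule := by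
        intro n
        induction n with
        | zero => rwa [zero_add, pow_one]
        | succ n ih =>
          rw [pow_succ]
          refine Submodule.mul_le.2 fun a ha b hb => ?_
          exact Subalgebra.mul_mem _ (ih ha) (h1 hb)
      exact h2 m
  have hle : J ≤ (Algebra.adjoin k {x}).toSubmodule := by
    have h1 := key N
    have h2 : J ^ (N + 1) = ⊥ := by rw [pow_succ, hN, Submodule.bot_mul]
    rwa [h2, sup_bot_eq] at h1
  intro y hy z hz
  have hcomm := Algebra.commute_of_mem_adjoin_of_forall_mem_commute (R := k) (s := {x}) (a := y)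
    (b := z) (hle hz) ?_
  · exact hcomm
  · rintro w hw
    rw [Set.mem_singleton_iff] at hw
    subst hw
    exact (Algebra.commute_of_mem_adjoin_self (hle hy)).symm

/-- Elements of a submodule between `W` and `J` of small codimension. -/
theorem exists_span_pair [FiniteDimensional k A] (W J : Submodule k A) (hWJ : W ≤ J)
    (h : finrank k J ≤ finrank k W + 2) :
    ∃ x ∈ J, ∃ y ∈ J, J ≤ Submodule.span k {x, y} ⊔ W := by
  by_cases h0 : J ≤ W
  · exact ⟨0, J.zero_mem, 0, J.zero_mem, h0.trans le_sup_right⟩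
  obtain ⟨x, hx, hxW⟩ := SetLike.not_le_iff_exists.1 h0
  set W1 : Submodule k A := Submodule.span k {x} ⊔ W with hW1
  have hW1J : W1 ≤ J := sup_le (Submodule.span_le.2 (Set.singleton_subset_iff.2 hx)) hWJ
  have hlt : W < W1 := lt_of_le_of_ne le_sup_right fun h => hxW (by
    rw [h]; exact Submodule.mem_sup_left (Submodule.mem_span_singleton_self x))
  have h1 := Submodule.finrank_lt_finrank_of_lt hlt
  by_cases h2 : J ≤ W1
  · refine ⟨x, hx, 0, J.zero_mem, h2.trans (sup_le_sup ?_ le_rfl)⟩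
    exact Submodule.span_mono (by simp)
  obtain ⟨y, hy, hyW⟩ := SetLike.not_le_iff_exists.1 h2
  set W2 : Submodule k A := Submodule.span k {y} ⊔ W1 with hW2
  have hW2J : W2 ≤ J := sup_le (Submodule.span_le.2 (Set.singleton_subset_iff.2 hy)) hW1J
  have hlt2 : W1 < W2 := lt_of_le_of_ne le_sup_right fun h => hyW (by
    rw [h]; exact Submodule.mem_sup_left (Submodule.mem_span_singleton_self y))
  have h3 := Submodule.finrank_lt_finrank_of_lt hlt2
  have h4 : W2 = J := Submodule.eq_of_le_of_finrank_le hW2J (by omega)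
  refine ⟨x, hx, y, hy, ?_⟩
  rw [← h4, hW2, hW1]
  refine sup_le ?_ (sup_le ?_ le_sup_right)
  · exact (Submodule.span_mono (by simp)).trans le_sup_left
  · exact (Submodule.span_mono (by simp)).trans le_sup_left

theorem exists_span_single [FiniteDimensional k A] (W J : Submodule k A) (hWJ : W ≤ J)
    (h : finrank k J ≤ finrank k W + 1) :
    ∃ x ∈ J, J ≤ Submodule.span k {x} ⊔ W := by
  by_cases h0 : J ≤ W
  · exact ⟨0, J.zero_mem, h0.trans le_sup_right⟩
  obtain ⟨x, hx, hxW⟩ := SetLike.not_le_iff_exists.1 h0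
  set W1 : Submodule k A := Submodule.span k {x} ⊔ W with hW1
  have hW1J : W1 ≤ J := sup_le (Submodule.span_le.2 (Set.singleton_subset_iff.2 hx)) hWJ
  have hlt : W < W1 := lt_of_le_of_ne le_sup_right fun h => hxW (by
    rw [h]; exact Submodule.mem_sup_left (Submodule.mem_span_singleton_self x))
  have h1 := Submodule.finrank_lt_finrank_of_lt hlt
  have h4 : W1 = J := Submodule.eq_of_le_of_finrank_le hW1J (by omega)
  exact ⟨x, hx, h4.ge⟩

/-- The linear algebra of the case of two generators. -/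
theorem two_gen {V : Type*} [AddCommGroup V] [Module k V] (a b c d : k) (hbc : b - c = 1)
    (Lx Ly Rx Ry : V) (h1 : a • Rx = a • Lx) (h2 : a • Ry = b • Lx) (h3 : b • Rx = c • Lx)
    (h4 : b • Ry = d • Lx) (h5 : c • Rx = a • Ly) (h6 : c • Ry = b • Ly) (h7 : d • Rx = c • Ly)
    (h8 : d • Ry = d • Ly) : Lx = 0 ∧ Ly = 0 := by
  by_cases ha : a = 0
  · by_cases hd : d = 0
    · subst ha; subst hd
      simp only [zero_smul] at h1 h2 h4 h5 h7 h8
      by_cases hb : b = 0
      · subst hb
        have hc : c ≠ 0 := by rintro rfl; simp at hbc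
        simp only [zero_smul] at h3
        exact ⟨((smul_eq_zero.1 h3.symm).resolve_left hc), ((smul_eq_zero.1 h7.symm).resolve_left hc)⟩
      · have hLx : Lx = 0 := (smul_eq_zero.1 h2.symm).resolve_left hb
        have hRy : Ry = 0 := (smul_eq_zero.1 h4).resolve_left hb
        rw [hRy, smul_zero] at h6
        exact ⟨hLx, (smul_eq_zero.1 h6.symm).resolve_left hb⟩
    · have hRy : Ry = Ly := smul_right_injective V hd h8
      rw [hRy] at h6 h4
      have hLy : Ly = 0 := by
        have : (b - c) • Ly = 0 := by rw [sub_smul, h6, sub_self]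
        rwa [hbc, one_smul] at this
      rw [hLy, smul_zero] at h4
      exact ⟨(smul_eq_zero.1 h4.symm).resolve_left hd, hLy⟩
  · have hRx : Rx = Lx := smul_right_injective V ha h1
    rw [hRx] at h3 h5
    have hLx : Lx = 0 := by
      have : (b - c) • Lx = 0 := by rw [sub_smul, h3, sub_self]
      rwa [hbc, one_smul] at this
    rw [hLx, smul_zero] at h5
    exact ⟨hLx, (smul_eq_zero.1 h5.symm).resolve_left ha⟩

set_option maxHeartbeats 1000000 in
/-- **Külshammer's lemma** on symmetric local algebras with centre of dimension at most four. -/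
theorem commutative_of_finrank_le [FiniteDimensional k A] (J : Submodule k A) (hJ : J * J ≤ J)
    {N : ℕ} (hN : J ^ N = ⊥) (s : A →ₗ[k] k) (hs : ∀ x y, s (x * y) = s (y * x))
    (hnd : ∀ x ∈ J, (∀ y ∈ J, x * y = 0) → s x = 0 → x = 0)
    (hdim : finrank k J ≤ finrank k (comm J) + 3) :
    ∀ y ∈ J, ∀ z ∈ J, y * z = z * y := by
  classical
  by_contra hcon
  -- the last nonzero power
  have hN0 : N ≠ 0 := by
    rintro rfl
    apply hcon
    have h1 : (1 : Submodule k A) = ⊥ := by rwa [pow_zero] at hN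
    have h2 : (1 : A) = 0 := by
      have : (1 : A) ∈ (1 : Submodule k A) := Submodule.one_le.1 le_rfl
      rw [h1] at this
      simpa using this
    intro y _ z _
    rw [← mul_one (y * z), ← mul_one (z * y), h2, mul_zero, mul_zero]
  have hex : ∃ n, J ^ n = ⊥ := ⟨N, hN⟩
  set n' := Nat.find hex with hn'
  have hn'spec : J ^ n' = ⊥ := Nat.find_spec hex
  have hn'0 : n' ≠ 0 := by
    intro h0
    apply hN0
    rw [h0, pow_zero] at hn'spec
    exfalso
    apply hcon
    have h2 : (1 : A) = 0 := by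
      have : (1 : A) ∈ (1 : Submodule k A) := Submodule.one_le.1 le_rfl
      rw [hn'spec] at this
      simpa using this
    intro y _ z _
    rw [← mul_one (y * z), ← mul_one (z * y), h2, mul_zero, mul_zero]
  obtain ⟨n, hn⟩ : ∃ n, n' = n + 1 := ⟨n' - 1, by omega⟩
  have hbot : J ^ (n + 1) = ⊥ := by rw [← hn]; exact hn'spec
  have hne : J ^ n ≠ ⊥ := fun h => by
    have := Nat.find_min hex (m := n) (by omega)
    exact this h
  have hpow0 : ∀ m, n + 1 ≤ m → J ^ m = ⊥ := by
    intro m hm
    obtain ⟨r, rfl⟩ := Nat.exists_eq_add_of_le hm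
    rw [pow_add, hbot, Submodule.bot_mul]
  have hcomm2 : J ^ 2 = ⊥ → False := by
    intro h
    apply hcon
    intro y hy z hz
    have h1 : y * z ∈ J ^ 2 := by rw [pow_two]; exact Submodule.mul_mem_mul hy hz
    have h2 : z * y ∈ J ^ 2 := by rw [pow_two]; exact Submodule.mul_mem_mul hz hy
    rw [h, Submodule.mem_bot] at h1 h2
    rw [h1, h2]
  have hn2 : 2 ≤ n := by
    by_contra h
    exact hcomm2 (hpow0 2 (by omega))
  -- `J ^ n` meets the commutators trivially
  have hdisj : J ^ n ⊓ comm J = ⊥ := by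
    rw [Submodule.eq_bot_iff]
    rintro x ⟨hx, hxK⟩
    have hxJ : x ∈ J := by
      have := pow_antitone hJ le_rfl (show 1 ≤ n by omega) hx
      rwa [pow_one] at this
    refine hnd x hxJ (fun y hy => ?_) (trace_comm J s hs hxK)
    have : x * y ∈ J ^ (n + 1) := by rw [pow_succ]; exact Submodule.mul_mem_mul hx hy
    rwa [hbot, Submodule.mem_bot] at this
  have hKle := comm_le J
  have hnle : J ^ n ≤ J ^ 2 := pow_antitone hJ (by omega) hn2
  have hsup : J ^ n ⊔ comm J ≤ J ^ 2 := sup_le hnle hKle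
  have hfs := Submodule.finrank_sup_add_finrank_inf_eq (J ^ n) (comm J)
  rw [hdisj, finrank_bot, add_zero] at hfs
  have hpos : 0 < finrank k (J ^ n : Submodule k A) := by
    rw [Module.finrank_pos_iff]
    exact Submodule.nontrivial_iff_ne_bot.2 hne
  have hle2 := Submodule.finrank_mono hsup
  have h21 : J ^ 2 ≤ J := by rw [pow_two]; exact hJ
  by_cases hsmall : finrank k J ≤ finrank k (J ^ 2 : Submodule k A) + 1
  · obtain ⟨x, hx, hJx⟩ := exists_span_single (J ^ 2) J h21 hsmall
    exact hcon (comm_of_span_singleton hJ hN x hx hJx)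
  have hfin : finrank k J ≤ finrank k (J ^ 2 : Submodule k A) + 2 := by omega
  obtain ⟨x, hx, y, hy, hJxy⟩ := exists_span_pair (J ^ 2) J h21 hfin
  have hsup' : J ^ n ⊔ comm J = J ^ 2 := Submodule.eq_of_le_of_finrank_le hsup (by omega)
  have hfn1 : finrank k (J ^ n : Submodule k A) = 1 := by omega
  by_cases hn3 : n = 2
  · -- then the commutators vanish
    rw [hn3] at hdisj hbot hne
    apply hcon
    intro u hu v hv
    have h1 : u * v - v * u ∈ comm J := Submodule.subset_span ⟨u, hu, v, hv, rfl⟩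
    have h2 : u * v - v * u ∈ J ^ 2 ⊓ comm J := ⟨hKle h1, h1⟩
    rw [hdisj, Submodule.mem_bot] at h2
    exact sub_eq_zero.1 h2
  have hn3' : 3 ≤ n := by omega
  have hn3le : J ^ n ≤ J ^ 3 := pow_antitone hJ (by omega) hn3'
  set z := x * y - y * x with hz
  have hJJ3 : ∀ u ∈ J, ∀ v ∈ J ^ 2, u * v ∈ J ^ 3 := fun u hu v hv => by
    rw [show (3 : ℕ) = 2 + 1 from rfl, pow_succ']
    exact Submodule.mul_mem_mul hu hv
  have hJJ3' : ∀ u ∈ J ^ 2, ∀ v ∈ J, u * v ∈ J ^ 3 := fun u hu v hv => by
    rw [show (3 : ℕ) = 2 + 1 from rfl, pow_succ]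
    exact Submodule.mul_mem_mul hu hv
  have h32 : J ^ 3 ≤ J ^ 2 := pow_antitone hJ (by omega) (by omega)
  -- commutators modulo `J ^ 3`
  have hKz : comm J ≤ Submodule.span k {z} ⊔ J ^ 3 := by
    rw [comm, Submodule.span_le]
    rintro w ⟨u, hu, v, hv, rfl⟩
    obtain ⟨u1, hu1, u2, hu2, rfl⟩ := Submodule.mem_sup.1 (hJxy hu)
    obtain ⟨v1, hv1, v2, hv2, rfl⟩ := Submodule.mem_sup.1 (hJxy hv)
    obtain ⟨α, β, rfl⟩ := Submodule.mem_span_pair.1 hu1
    obtain ⟨γ, δ, rfl⟩ := Submodule.mem_span_pair.1 hv1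
    have hu1J : α • x + β • y ∈ J := J.add_mem (J.smul_mem _ hx) (J.smul_mem _ hy)
    have hv1J : γ • x + δ • y ∈ J := J.add_mem (J.smul_mem _ hx) (J.smul_mem _ hy)
    have hv2J : v2 ∈ J := h21 hv2
    have e1 : (α • x + β • y + u2) * (γ • x + δ • y + v2) -
        (γ • x + δ • y + v2) * (α • x + β • y + u2) =
        (α * δ - β * γ) • z + (((α • x + β • y) * v2 + u2 * (γ • x + δ • y) + u2 * v2) -
          ((γ • x + δ • y) * u2 + v2 * (α • x + β • y) + v2 * u2)) := by
      rw [hz]
      simp only [mul_add, add_mul, smul_mul_assoc, mul_smul_comm, sub_smul, smul_sub, smul_add,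
        smul_smul]
      simp only [mul_comm δ α, mul_comm γ α, mul_comm γ β, mul_comm δ β]
      abel
    rw [SetLike.mem_coe, e1]
    refine Submodule.add_mem _ (Submodule.mem_sup_left (Submodule.smul_mem _ _
      (Submodule.mem_span_singleton_self z))) (Submodule.mem_sup_right ?_)
    refine Submodule.sub_mem _ (Submodule.add_mem _ (Submodule.add_mem _ (hJJ3 _ hu1J _ hv2)
      (hJJ3' _ hu2 _ hv1J)) (hJJ3' _ hu2 _ hv2J)) (Submodule.add_mem _ (Submodule.add_mem _
      (hJJ3 _ hv1J _ hu2) (hJJ3' _ hv2 _ hu1J)) (hJJ3 _ hv2J _ hu2))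
  have hJ2z : J ^ 2 ≤ Submodule.span k {z} ⊔ J ^ 3 := by
    rw [← hsup']
    exact sup_le (hn3le.trans le_sup_right) hKz
  have hz2 : z ∈ J ^ 2 := by
    rw [pow_two]
    exact Submodule.sub_mem _ (Submodule.mul_mem_mul hx hy) (Submodule.mul_mem_mul hy hx)
  have hzJ : z ∈ J := h21 hz2
  -- `z` is not in `J ^ 3`
  have hz3 : z ∉ J ^ 3 := by
    intro h
    have h1 : J ^ 2 ≤ J ^ 3 := hJ2z.trans (sup_le (Submodule.span_le.2
      (Set.singleton_subset_iff.2 h)) le_rfl)
    have h2 : ∀ m, J ^ 2 ≤ J ^ (m + 2) := by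
      intro m
      induction m with
      | zero => exact le_rfl
      | succ m ih =>
        calc J ^ 2 ≤ J ^ 3 := h1
          _ = J ^ 2 * J := by rw [← pow_succ]
          _ ≤ J ^ (m + 2) * J := mul_le_mul_left ih _
          _ = J ^ (m + 1 + 2) := by rw [← pow_succ]
    have h3 := h2 n
    rw [hpow0 (n + 2) (by omega), le_bot_iff] at h3
    exact hcomm2 h3
  -- products modulo `J ^ 3`
  have hprod : ∀ u ∈ J, ∀ v ∈ J, ∃ c : k, u * v - c • z ∈ J ^ 3 := by
    intro u hu v hv
    have h1 : u * v ∈ J ^ 2 := by rw [pow_two]; exact Submodule.mul_mem_mul hu hv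
    obtain ⟨w, hw, t, ht, hwt⟩ := Submodule.mem_sup.1 (hJ2z h1)
    obtain ⟨c, rfl⟩ := Submodule.mem_span_singleton.1 hw
    exact ⟨c, by rw [← hwt]; simpa using ht⟩
  obtain ⟨a, ha⟩ := hprod x hx x hx
  obtain ⟨b, hb⟩ := hprod x hx y hy
  obtain ⟨c, hc⟩ := hprod y hy x hx
  obtain ⟨d, hd⟩ := hprod y hy y hy
  have hbc : b - c = 1 := by
    by_contra hne1
    apply hz3
    have h1 : (x * y - b • z) - (y * x - c • z) ∈ J ^ 3 := Submodule.sub_mem _ hb hc
    have h2 : (x * y - b • z) - (y * x - c • z) = (1 - (b - c)) • z := by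
      rw [sub_smul, one_smul, sub_smul]
      simp only [hz]
      abel
    rw [h2] at h1
    have h3 : (1 - (b - c)) ≠ 0 := fun h => hne1 (sub_eq_zero.1 h).symm
    have h4 := Submodule.smul_mem _ (1 - (b - c))⁻¹ h1
    rwa [smul_smul, inv_mul_cancel₀ h3, one_smul] at h4
  clear_value z
  -- relations modulo `J ^ 4`
  have hrel : ∀ u ∈ J, ∀ v ∈ J, ∀ w ∈ J, ∀ e f : k, u * v - e • z ∈ J ^ 3 → v * w - f • z ∈ J ^ 3 →
      e • (z * w) - f • (u * z) ∈ J ^ 4 := by
    intro u hu v hv w hw e f h1 h2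
    have h3 : (u * v - e • z) * w ∈ J ^ 4 := by
      rw [show (4 : ℕ) = 3 + 1 from rfl, pow_succ]
      exact Submodule.mul_mem_mul h1 hw
    have h4 : u * (v * w - f • z) ∈ J ^ 4 := by
      rw [show (4 : ℕ) = 3 + 1 from rfl, pow_succ']
      exact Submodule.mul_mem_mul hu h2
    have h5 : e • (z * w) - f • (u * z) = u * (v * w - f • z) - (u * v - e • z) * w := by
      rw [mul_sub, sub_mul, mul_assoc, mul_smul_comm, smul_mul_assoc]
      abel
    rw [h5]
    exact Submodule.sub_mem _ h4 h3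
  have hq : ∀ u ∈ J, ∀ v ∈ J, ∀ w ∈ J, ∀ e f : k, u * v - e • z ∈ J ^ 3 → v * w - f • z ∈ J ^ 3 →
      e • (J ^ 4).mkQ (z * w) = f • (J ^ 4).mkQ (u * z) := by
    intro u hu v hv w hw e f h1 h2
    have := hrel u hu v hv w hw e f h1 h2
    rw [← Submodule.Quotient.mk_eq_zero, ← Submodule.mkQ_apply, map_sub, map_smul, map_smul,
      sub_eq_zero] at this
    exact this
  obtain ⟨hLx, hLy⟩ := two_gen a b c d hbc ((J ^ 4).mkQ (x * z)) ((J ^ 4).mkQ (y * z))
    ((J ^ 4).mkQ (z * x)) ((J ^ 4).mkQ (z * y)) (hq x hx x hx x hx a a ha ha)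
    (hq x hx x hx y hy a b ha hb) (hq x hx y hy x hx b c hb hc) (hq x hx y hy y hy b d hb hd)
    (hq y hy x hx x hx c a hc ha) (hq y hy x hx y hy c b hc hb) (hq y hy y hy x hx d c hd hc)
    (hq y hy y hy y hy d d hd hd)
  rw [Submodule.mkQ_apply, Submodule.Quotient.mk_eq_zero] at hLx hLy
  -- hence `J ^ 3 ≤ J ^ 4`
  have h34 : J ^ 3 ≤ J ^ 4 := by
    calc J ^ 3 = J * J ^ 2 := by rw [show (3 : ℕ) = 2 + 1 from rfl, pow_succ']
      _ ≤ (Submodule.span k {x, y} ⊔ J ^ 2) * (Submodule.span k {z} ⊔ J ^ 3) :=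
        mul_le_mul' hJxy hJ2z
      _ ≤ J ^ 4 := by
        rw [Submodule.sup_mul, Submodule.mul_sup, Submodule.mul_sup]
        refine sup_le (sup_le ?_ ?_) (sup_le ?_ ?_)
        · rw [Submodule.span_mul_span, Submodule.span_le]
          rintro w ⟨u, hu, v, hv, rfl⟩
          rw [Set.mem_singleton_iff] at hv
          subst hv
          rcases hu with rfl | hu
          · exact hLx
          · rw [Set.mem_singleton_iff] at hu
            subst hu
            exact hLy
        · rw [show J ^ 4 = J * J ^ 3 from pow_succ' J 3]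
          refine mul_le_mul_left ?_ _
          rw [Submodule.span_le]
          rintro w (rfl | hw)
          · exact hx
          · rw [Set.mem_singleton_iff] at hw
            subst hw
            exact hy
        · rw [show J ^ 4 = J ^ 2 * J ^ 2 from pow_add J 2 2]
          refine mul_le_mul_right ?_ _
          rw [Submodule.span_le]
          exact Set.singleton_subset_iff.2 hz2
        · rw [← pow_add]
          exact pow_antitone hJ (by omega) (by omega)
  have h2 : ∀ m, J ^ 3 ≤ J ^ (m + 3) := by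
    intro m
    induction m with
    | zero => exact le_rfl
    | succ m ih =>
      calc J ^ 3 ≤ J ^ 4 := h34
        _ = J ^ 3 * J := by rw [← pow_succ]
        _ ≤ J ^ (m + 3) * J := mul_le_mul_left ih _
        _ = J ^ (m + 1 + 3) := by rw [← pow_succ]
  have h3 := h2 n
  rw [hpow0 (n + 3) (by omega), le_bot_iff] at h3
  rw [h3, le_bot_iff] at hn3le
  exact hne hn3le

end Cfsg.Agent.H645.LocalAlg
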