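import Mathlib
import Cfsg.Agent.H634.Cols
import Cfsg.Agent.CharactersDeep.SmallDegree
import Cfsg.Agent.S4676
import Cfsg.Agent.S0908
import Cfsg.Agent.H658.Major

/-!
# Counting characters by subsections: special cases

* `blockRank_le_of_central` : if `x` is a central `p`-element, its section contributes at least
  `l(b)` to `k(b)`;
* `two_mul_blockRank_le` : `2 l(b) ≤ k(b)` if there is a nontrivial central `p`-element;
* `card_le_add` : if all nontrivial subsections of `B` are conjugate, `k(B) ≤ l(B) + l(b)` for one of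
  them (or `k(B) ≤ l(B)`).
-/

set_option autoImplicit false
set_option linter.unusedSectionVars false

open Cfsg Cfsg.Agent.Blocks.Basic Cfsg.Agent.Blocks.Local Module

namespace Cfsg.Agent.H645.SubCount

open Cfsg.Agent.H608.BlockRank

universe u

variable {G : Type u} [Group G] [Finite G] {p : ℕ} [Fact p.Prime] {M : Ideal AlgInt}

/-- The values of an irreducible character at multiples of a central element. -/
theorem exists_scalar_of_central {x : G} (hx : ∀ g, x * g = g * x) (χ : IrrCharacter G) :
    ∃ c : ℂ, c ≠ 0 ∧ ∀ g, (χ : G → ℂ) (x * g) = c * (χ : G → ℂ) g := by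
  obtain ⟨c, hc, h⟩ := Cfsg.Agent.CharactersDeep.SmallDegree.exists_central_mul χ.2
    (z := x) fun g => (hx g).symm
  refine ⟨c, fun h0 => ?_, fun g => by rw [hx, h]⟩
  rw [h0, norm_zero] at hc
  exact zero_ne_one hc

theorem blockRank_le_of_central {x : G} (hx : ∀ g, x * g = g * x) (b : Set (IrrCharacter G)) :
    blockRank p b ≤ finrank ℂ ((charSpan b).map
      (secMap p x (Subgroup.centralizer ({x} : Set G)))) := by
  classical
  have hall : ∀ g : G, g ∈ Subgroup.centralizer ({x} : Set G) := fun g => by
    rw [Subgroup.mem_centralizer_singleton_iff]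
    exact (hx g).symm
  set H := Subgroup.centralizer ({x} : Set G) with hH
  let E : (H → ℂ) →ₗ[ℂ] (G → ℂ) := LinearMap.funLeft ℂ ℂ (fun g : G => (⟨g, hall g⟩ : H))
  have h1 : (charSpan b).map (pReg p) ≤ ((charSpan b).map (secMap p x H)).map E := by
    rw [Submodule.map_le_iff_le_comap]
    unfold charSpan
    rw [Submodule.span_le]
    rintro _ ⟨χ, hχ, rfl⟩
    obtain ⟨c, hc0, hc⟩ := exists_scalar_of_central hx χ
    rw [SetLike.mem_coe, Submodule.mem_comap]
    have h2 : pReg p (χ : G → ℂ) = c⁻¹ • E (secMap p x H (χ : G → ℂ)) := by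
      funext g
      rw [Pi.smul_apply, smul_eq_mul]
      change _ = c⁻¹ * secMap p x H (χ : G → ℂ) ⟨g, hall g⟩
      by_cases hg : IsPRegular p g
      · have hg' : IsPRegular p (⟨g, hall g⟩ : H) := by
          unfold IsPRegular at hg ⊢
          rwa [Subgroup.orderOf_mk]
        rw [pReg_of hg, secMap_of hg', hc, ← mul_assoc, inv_mul_cancel₀ hc0, one_mul]
      · have hg' : ¬ IsPRegular p (⟨g, hall g⟩ : H) := by
          unfold IsPRegular at hg ⊢
          rwa [Subgroup.orderOf_mk]
        rw [pReg_of_not hg, secMap_of_not hg', mul_zero]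
    rw [h2]
    exact Submodule.smul_mem _ _ (Submodule.mem_map_of_mem (Submodule.mem_map_of_mem
      (Submodule.subset_span ⟨χ, hχ, rfl⟩)))
  rw [blockRank_eq]
  exact (Submodule.finrank_mono h1).trans (Submodule.finrank_map_le E _)

/-- A block of a group with a nontrivial central `p`-element. -/
theorem two_mul_blockRank_le (hM : IsPModular p M) {b : Set (IrrCharacter G)}
    (hb : IsPBlock M b) {x : G} (hxp : ∃ k : ℕ, orderOf x = p ^ k) (hx1 : x ≠ 1)
    (hx : ∀ g, x * g = g * x) : 2 * blockRank p b ≤ Nat.card b := by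
  classical
  have hMp := isPrime_of_isPModular hM
  have h1 : ∃ k : ℕ, orderOf (1 : G) = p ^ k := ⟨0, by simp⟩
  obtain ⟨X, hSX, hX, hXrep⟩ := H634.Cols.exists_reps (p := p) ({1, x} : Finset G)
    (by
      intro y hy
      simp only [Finset.mem_insert, Finset.mem_singleton] at hy
      rcases hy with rfl | rfl
      · exact h1
      · exact hxp)
    (by
      intro y hy z hz hc
      simp only [Finset.mem_insert, Finset.mem_singleton] at hy hz
      rcases hy with rfl | rfl <;> rcases hz with rfl | rfl
      · rfl
      · exact (hx1 (H634.Cols.one_conj hc)).elim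
      · exact (hx1 (H634.Cols.one_conj hc.symm)).elim
      · rfl)
  rw [card_eq_sum_finrank hM (isUnion_of_isPBlock hb) X hX hXrep]
  have h2 := Finset.sum_le_sum_of_subset (f := fun x => finrank ℂ ((charSpan b).map
      (secMap p x (Subgroup.centralizer ({x} : Set G))))) hSX
  refine le_trans ?_ h2
  rw [Finset.sum_insert (by simpa using hx1.symm), Finset.sum_singleton,
    H634.Cols.finrank_secMap_one, two_mul]
  exact Nat.add_le_add_left (blockRank_le_of_central hx b) _

/-- All nontrivial subsections conjugate. -/
theorem card_le_add (hM : IsPModular p M) {B : Set (IrrCharacter G)} (hB : IsPBlock M B)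
    (h1 : ∀ x y : G, x ≠ 1 → y ≠ 1 → (∃ k : ℕ, orderOf x = p ^ k) → (∃ k : ℕ, orderOf y = p ^ k) →
      ∀ (b : Set (IrrCharacter (Subgroup.centralizer ({x} : Set G))))
        (c : Set (IrrCharacter (Subgroup.centralizer ({y} : Set G)))),
        IsInducedBlock M (Subgroup.centralizer ({x} : Set G)) b B →
        IsInducedBlock M (Subgroup.centralizer ({y} : Set G)) c B → IsConj x y)
    (h2 : ∀ x : G, x ≠ 1 → (∃ k : ℕ, orderOf x = p ^ k) →
      ∀ b b' : Set (IrrCharacter (Subgroup.centralizer ({x} : Set G))),
        IsInducedBlock M (Subgroup.centralizer ({x} : Set G)) b B →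
        IsInducedBlock M (Subgroup.centralizer ({x} : Set G)) b' B → b = b') :
    Nat.card B ≤ blockRank p B ∨ ∃ (x : G) (b : Set (IrrCharacter (Subgroup.centralizer ({x} : Set G)))),
      x ≠ 1 ∧ (∃ k : ℕ, orderOf x = p ^ k) ∧
      IsInducedBlock M (Subgroup.centralizer ({x} : Set G)) b B ∧
      Nat.card B ≤ blockRank p B + blockRank p b := by
  classical
  have hMp := isPrime_of_isPModular hM
  have hone : ∃ k : ℕ, orderOf (1 : G) = p ^ k := ⟨0, by simp⟩
  -- the contribution of an element
  let A : ∀ x : G, Set (IrrCharacter (Subgroup.centralizer ({x} : Set G))) := fun x =>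
    {ξ | IsInducedBlock M (Subgroup.centralizer ({x} : Set G))
      (blockOf M (ξ : ↥(Subgroup.centralizer ({x} : Set G)) → ℂ)) B}
  have hA : ∀ x : G, (∃ k : ℕ, orderOf x = p ^ k) → finrank ℂ ((charSpan B).map
      (secMap p x (Subgroup.centralizer ({x} : Set G)))) = blockRank p (A x) := fun x hx =>
    finrank_secMap hM hB hx rfl (A := A x) fun ξ => Iff.rfl
  have hempty : ∀ x : G, (∀ b : Set (IrrCharacter (Subgroup.centralizer ({x} : Set G))),
      ¬ IsInducedBlock M (Subgroup.centralizer ({x} : Set G)) b B) → blockRank p (A x) = 0 := by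
    intro x hx
    have : A x = ∅ := by
      ext ξ
      exact ⟨fun h => hx _ h, fun h => h.elim⟩
    rw [this, blockRank_empty]
  by_cases hex : ∃ (x : G) (b : Set (IrrCharacter (Subgroup.centralizer ({x} : Set G)))),
      x ≠ 1 ∧ (∃ k : ℕ, orderOf x = p ^ k) ∧
      IsInducedBlock M (Subgroup.centralizer ({x} : Set G)) b B
  · obtain ⟨x, b, hx1, hxp, hb⟩ := hex
    right
    refine ⟨x, b, hx1, hxp, hb, ?_⟩
    obtain ⟨X, hSX, hX, hXrep⟩ := H634.Cols.exists_reps (p := p) ({1, x} : Finset G)
      (by
        intro y hy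
        simp only [Finset.mem_insert, Finset.mem_singleton] at hy
        rcases hy with rfl | rfl
        · exact hone
        · exact hxp)
      (by
        intro y hy z hz hc
        simp only [Finset.mem_insert, Finset.mem_singleton] at hy hz
        rcases hy with rfl | rfl <;> rcases hz with rfl | rfl
        · rfl
        · exact (hx1 (H634.Cols.one_conj hc)).elim
        · exact (hx1 (H634.Cols.one_conj hc.symm)).elim
        · rfl)
    rw [card_eq_sum_finrank hM (isUnion_of_isPBlock hB) X hX hXrep,
      ← Finset.sum_subset hSX, Finset.sum_insert (by simpa using hx1.symm), Finset.sum_singleton,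
      H634.Cols.finrank_secMap_one, hA x hxp]
    · apply Nat.add_le_add_left
      have hAb : A x = b := by
        have hbB := hb.1
        ext ξ
        constructor
        · intro hξ
          have := h2 x hx1 hxp _ _ hξ hb
          rw [← this]
          exact mem_blockOf_self ξ
        · intro hξ
          change IsInducedBlock M _ (blockOf M _) B
          rw [← isPBlock_eq_blockOf hbB hξ]
          exact hb
      rw [hAb]
    · intro y hy hy'
      simp only [Finset.mem_insert, Finset.mem_singleton, not_or] at hy'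
      rw [hA y (hX y hy)]
      refine hempty y fun c hc => hy'.2 ?_
      have hxy := h1 y x hy'.1 hx1 (hX y hy) hxp c b hc hb
      obtain ⟨z, -, hz⟩ := hXrep y (hX y hy)
      rw [hz y ⟨hy, IsConj.refl y⟩, hz x ⟨hSX (by simp), hxy⟩]
  · left
    obtain ⟨X, hSX, hX, hXrep⟩ := H634.Cols.exists_reps (p := p) ({1} : Finset G)
      (by
        intro y hy
        rw [Finset.mem_singleton] at hy
        rw [hy]
        exact hone)
      (by
        intro y hy z hz _
        rw [Finset.mem_singleton] at hy hz
        rw [hy, hz])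
    rw [card_eq_sum_finrank hM (isUnion_of_isPBlock hB) X hX hXrep,
      ← Finset.sum_subset hSX, Finset.sum_singleton, H634.Cols.finrank_secMap_one]
    intro y hy hy'
    rw [Finset.mem_singleton] at hy'
    rw [hA y (hX y hy)]
    exact hempty y fun c hc => hex ⟨y, c, hy', hX y hy, hc⟩

end Cfsg.Agent.H645.SubCount
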