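import Cfsg.Agent.H645.LocalAlg

/-!
# Symmetric algebras with a central idempotent having a single simple module

`A` is a finite-dimensional algebra over the field `k`, `b` a central idempotent,
`π : A → M_n(k)` a surjection with `π b = 1` such that the kernel of `π` on `A b` is nilpotent.

* `finrank_eq` : if `b` acts as the identity on the invariant subspace `W` of a representation `ρ`,
  then `dim W = n * dim (e W)` for an idempotent `e = e b` with `π e = E_{ii}`;
* `finrank_eq_of_small_center` : if moreover `A` is symmetric and the centre of `A b` has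
  dimension `m ≤ 4`, then `dim A b = n ^ 2 * m` (Külshammer).
-/

set_option autoImplicit false

namespace Cfsg.Agent.H645.SymAlg

open Module LocalAlg

variable {k : Type*} [Field k] {A : Type*} [Ring A] [Algebra k A]
variable {ι : Type*} [Fintype ι] [DecidableEq ι]

/-- The kernel of `π` on `A b`. -/
def kerOn (π : A →ₐ[k] Matrix ι ι k) (b : A) : Submodule k A :=
  LinearMap.ker π.toLinearMap ⊓ LinearMap.ker (LinearMap.mulRight k b - LinearMap.id)

theorem mem_kerOn {π : A →ₐ[k] Matrix ι ι k} {b x : A} :
    x ∈ kerOn π b ↔ π x = 0 ∧ x * b = x := by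
  rw [kerOn, Submodule.mem_inf, LinearMap.mem_ker, LinearMap.mem_ker, LinearMap.sub_apply,
    LinearMap.mulRight_apply, LinearMap.id_apply, sub_eq_zero]
  rfl

/-- The data: a central idempotent with a single simple module. -/
structure Dat (π : A →ₐ[k] Matrix ι ι k) (b : A) (N : ℕ) : Prop where
  surj : Function.Surjective π
  idem : b * b = b
  cent : ∀ x, b * x = x * b
  map : π b = 1
  nil : kerOn π b ^ N = ⊥

/-- The data of a primitive idempotent. -/
structure Prim (π : A →ₐ[k] Matrix ι ι k) (b e : A) (i₀ : ι) : Prop where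
  idem : e * e = e
  mul : e * b = e
  map : π e = Matrix.single i₀ i₀ 1

variable {π : A →ₐ[k] Matrix ι ι k} {b e : A} {N : ℕ} {i₀ : ι}

theorem Dat.pow_eq_zero (h : Dat π b N) {x : A} (hx : x ∈ kerOn π b) : x ^ N = 0 := by
  have : x ^ N ∈ kerOn π b ^ N := Submodule.pow_mem_pow _ hx N
  rwa [h.nil, Submodule.mem_bot] at this

/-- Lifts of the matrix units. -/
theorem Dat.exists_units (h : Dat π b N) : ∃ E : ι → ι → A, ∀ i j, π (E i j) = Matrix.single i j 1 :=
  ⟨fun i j => (h.surj (Matrix.single i j 1)).choose, fun _ _ => (h.surj _).choose_spec⟩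

theorem Dat.mem_of_map (h : Dat π b N) {x y : A} (hxy : π x = π y) : (x - y) * b ∈ kerOn π b := by
  rw [mem_kerOn, map_mul, map_sub, hxy, sub_self, zero_mul, mul_assoc, h.idem]
  exact ⟨rfl, rfl⟩

section dims

variable {U : Type*} [AddCommGroup U] [Module k U]

theorem finrank_le (h : Dat π b N) (he : Prim π b e i₀) (ρ : A →ₐ[k] Module.End k U)
    (W : Submodule k U) [FiniteDimensional k W] (hW : ∀ x, ∀ w ∈ W, ρ x w ∈ W)
    (hb : ∀ w ∈ W, ρ b w = w) :
    finrank k W ≤ Fintype.card ι * finrank k (W.map (ρ e)) := by
  obtain ⟨E, hE⟩ := h.exists_units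
  let Φ : W →ₗ[k] (ι → W.map (ρ e)) :=
    LinearMap.pi fun i => ((ρ e).submoduleMap W).comp (((ρ (E i₀ i)).restrict (hW (E i₀ i))))
  have hΦ : ∀ (w : W) (i : ι), ((Φ w i : W.map (ρ e)) : U) = ρ (e * E i₀ i) w := by
    intro w i
    rw [map_mul]
    rfl
  have hinj : Function.Injective Φ := by
    rw [← LinearMap.ker_eq_bot, LinearMap.ker_eq_bot']
    intro w hw
    set x : A := ∑ i, E i i₀ * (e * E i₀ i) with hx
    have hπx : π 1 = π x := by
      rw [hx, map_sum, map_one]
      have h1 : ∀ i, π (E i i₀ * (e * E i₀ i)) = Matrix.single i i (1 : k) := by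
        intro i
        rw [map_mul, map_mul, hE, hE, he.map]
        simp
      rw [Finset.sum_congr rfl fun i _ => h1 i]
      ext a c
      simp only [Matrix.sum_apply, Matrix.single_apply, Matrix.one_apply]
      by_cases hac : a = c
      · subst hac; simp
      · rw [if_neg hac]
        refine (Finset.sum_eq_zero fun i _ => ?_).symm
        rw [if_neg]
        rintro ⟨rfl, rfl⟩
        exact hac rfl
    have hj := h.mem_of_map hπx
    set j := (1 - x) * b with hjd
    have hxw : ρ x w = 0 := by
      rw [hx, map_sum, LinearMap.sum_apply]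
      refine Finset.sum_eq_zero fun i _ => ?_
      rw [map_mul, Module.End.mul_apply, ← hΦ, hw]
      simp
    have hjw : ρ j w = w := by
      rw [hjd, map_mul, Module.End.mul_apply, hb w w.2, map_sub, map_one, LinearMap.sub_apply,
        hxw, sub_zero, Module.End.one_apply]
    have hpow : ∀ n : ℕ, ρ (j ^ n) w = w := by
      intro n
      induction n with
      | zero => rw [pow_zero, map_one, Module.End.one_apply]
      | succ n ih => rw [pow_succ, map_mul, Module.End.mul_apply, hjw, ih]
    have h2 := hpow N
    rw [h.pow_eq_zero hj, map_zero, LinearMap.zero_apply] at h2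
    exact Subtype.ext h2.symm
  have := LinearMap.finrank_le_finrank_of_injective hinj
  rwa [Module.finrank_pi_fintype, Finset.sum_const, Finset.card_univ, smul_eq_mul] at this

theorem le_finrank (h : Dat π b N) (he : Prim π b e i₀) (ρ : A →ₐ[k] Module.End k U)
    (W : Submodule k U) [FiniteDimensional k W] (hW : ∀ x, ∀ w ∈ W, ρ x w ∈ W)
    (hb : ∀ w ∈ W, ρ b w = w) :
    Fintype.card ι * finrank k (W.map (ρ e)) ≤ finrank k W := by
  obtain ⟨E, hE⟩ := h.exists_units
  have hle : W.map (ρ e) ≤ W := by
    rintro _ ⟨w, hw, rfl⟩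
    exact hW e w hw
  let Ψ : (ι → W.map (ρ e)) →ₗ[k] W :=
    LinearMap.lsum k (fun _ => (W.map (ρ e) : Submodule k U)) k fun i =>
      ((ρ (E i i₀)).restrict (hW (E i i₀))).comp (Submodule.inclusion hle)
  have hΨ : ∀ f : ι → W.map (ρ e), ((Ψ f : W) : U) = ∑ i, ρ (E i i₀) (f i) := by
    intro f
    simp only [Ψ, LinearMap.lsum_apply, LinearMap.sum_apply, LinearMap.comp_apply,
      LinearMap.proj_apply, Submodule.coe_sum]
    rfl
  have hinj : Function.Injective Ψ := by
    rw [← LinearMap.ker_eq_bot, LinearMap.ker_eq_bot']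
    intro f hf
    have hef : ∀ i, ρ e (f i) = f i := by
      intro i
      obtain ⟨w, hw, hwi⟩ := (f i).2
      rw [← hwi, ← Module.End.mul_apply, ← map_mul, he.idem]
    -- the error terms
    let t : ι → ι → A := fun j i => ((if i = j then e else 0) - e * E i₀ j * E i i₀ * e) * b
    have ht : ∀ j i, t j i ∈ kerOn π b := by
      intro j i
      refine h.mem_of_map ?_
      rw [map_mul, map_mul, map_mul, hE, hE, he.map]
      by_cases hij : i = j
      · subst hij
        rw [if_pos rfl, he.map]
        simp
      · rw [if_neg hij, map_zero]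
        simp [Matrix.single_mul_single_of_ne, Ne.symm hij]
    have hft : ∀ j, (f j : U) = ∑ i, ρ (t j i) (f i) := by
      intro j
      have h1 : ∑ i, ρ (e * E i₀ j * E i i₀ * e) (f i : U) = 0 := by
        have h2 : ρ (e * E i₀ j) ((Ψ f : W) : U) = 0 := by rw [hf]; simp
        rw [hΨ, map_sum] at h2
        rw [← h2]
        refine Finset.sum_congr rfl fun i _ => ?_
        rw [map_mul _ _ e, Module.End.mul_apply, hef, map_mul _ _ (E i i₀), Module.End.mul_apply]
      have h3 : ∀ i, ρ (t j i) (f i : U) = (if i = j then (f j : U) else 0) -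
          ρ (e * E i₀ j * E i i₀ * e) (f i : U) := by
        intro i
        simp only [t]
        rw [map_mul, Module.End.mul_apply, hb _ (hle (f i).2), map_sub, LinearMap.sub_apply]
        congr 1
        by_cases hij : i = j
        · subst hij
          rw [if_pos rfl, if_pos rfl, hef]
        · rw [if_neg hij, if_neg hij, map_zero, LinearMap.zero_apply]
      rw [Finset.sum_congr rfl fun i _ => h3 i, Finset.sum_sub_distrib, h1, sub_zero,
        Finset.sum_ite_eq' Finset.univ j, if_pos (Finset.mem_univ j)]
    have hmem : ∀ (m : ℕ) (j : ι), (f j : U) ∈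
        Submodule.map₂ ρ.toLinearMap (kerOn π b ^ m) W := by
      intro m
      induction m with
      | zero =>
        intro j
        have h1 : (f j : U) = ρ.toLinearMap 1 (f j) := by
          rw [AlgHom.toLinearMap_apply, map_one, Module.End.one_apply]
        rw [h1, pow_zero]
        exact Submodule.apply_mem_map₂ _ (Submodule.one_le.1 le_rfl) (hle (f j).2)
      | succ m ih =>
        intro j
        rw [hft j]
        refine Submodule.sum_mem _ fun i _ => ?_
        -- apply `ρ (t j i)` to an element of the image
        have h1 : ∀ u ∈ Submodule.map₂ ρ.toLinearMap (kerOn π b ^ m) W,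
            ρ (t j i) u ∈ Submodule.map₂ ρ.toLinearMap (kerOn π b ^ (m + 1)) W := by
          intro u hu
          have h2 : Submodule.map₂ ρ.toLinearMap (kerOn π b ^ m) W ≤
              (Submodule.map₂ ρ.toLinearMap (kerOn π b ^ (m + 1)) W).comap (ρ (t j i)) := by
            rw [Submodule.map₂_le]
            intro x hx w hw
            rw [Submodule.mem_comap, AlgHom.toLinearMap_apply, ← Module.End.mul_apply, ← map_mul]
            refine Submodule.apply_mem_map₂ _ ?_ hw
            rw [pow_succ']
            exact Submodule.mul_mem_mul (ht j i) hx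
          exact h2 hu
        exact h1 _ (ih i)
    funext j
    have h1 := hmem N j
    rw [h.nil, Submodule.map₂_bot_left, Submodule.mem_bot] at h1
    exact Subtype.ext h1
  have := LinearMap.finrank_le_finrank_of_injective hinj
  rwa [Module.finrank_pi_fintype, Finset.sum_const, Finset.card_univ, smul_eq_mul] at this

/-- The dimension formula. -/
theorem finrank_eq (h : Dat π b N) (he : Prim π b e i₀) (ρ : A →ₐ[k] Module.End k U)
    (W : Submodule k U) [FiniteDimensional k W] (hW : ∀ x, ∀ w ∈ W, ρ x w ∈ W)
    (hb : ∀ w ∈ W, ρ b w = w) :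
    finrank k W = Fintype.card ι * finrank k (W.map (ρ e)) :=
  le_antisymm (finrank_le h he ρ W hW hb) (le_finrank h he ρ W hW hb)

end dims

section form

variable [FiniteDimensional k A] (s : A →ₗ[k] k)

/-- The linear form `x ↦ s (x * y)`, as a function of `y`. -/
def form : A →ₗ[k] Module.Dual k A where
  toFun y := s.comp (LinearMap.mulRight k y)
  map_add' y y' := by
    ext x
    simp [mul_add]
  map_smul' c y := by
    ext x
    simp

omit [FiniteDimensional k A] in
theorem form_apply (x y : A) : form s y x = s (x * y) := rfl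

variable {s}

omit [FiniteDimensional k A] in
theorem form_injective (hs : ∀ x y, s (x * y) = s (y * x)) (hnd : ∀ x, (∀ y, s (x * y) = 0) → x = 0) :
    Function.Injective (form s) := by
  rw [← LinearMap.ker_eq_bot, LinearMap.ker_eq_bot']
  intro y hy
  refine hnd y fun x => ?_
  rw [hs, ← form_apply, hy, LinearMap.zero_apply]

/-- The left and right ideals of an idempotent have the same dimension. -/
theorem finrank_mulRight_eq (hs : ∀ x y, s (x * y) = s (y * x))
    (hnd : ∀ x, (∀ y, s (x * y) = 0) → x = 0) (e : A) :
    finrank k (LinearMap.range (LinearMap.mulRight k e)) =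
      finrank k (LinearMap.range (LinearMap.mulLeft k e)) := by
  have hinj := form_injective hs hnd
  have hsurj : Function.Surjective (form s) :=
    (LinearMap.injective_iff_surjective_of_finrank_eq_finrank
      (Subspace.dual_finrank_eq (K := k) (V := A)).symm).1 hinj
  have h1 : (LinearMap.mulLeft k e).dualMap ∘ₗ form s = form s ∘ₗ LinearMap.mulRight k e := by
    ext y x
    change s (e * x * y) = s (x * (y * e))
    rw [mul_assoc, hs e, mul_assoc]
  have h2 : LinearMap.range (LinearMap.mulLeft k e).dualMap =
      (LinearMap.range (LinearMap.mulRight k e)).map (form s) := by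
    rw [← LinearMap.range_comp, ← h1, LinearMap.range_comp, LinearMap.range_eq_top.2 hsurj,
      Submodule.map_top]
  rw [← LinearMap.finrank_range_dualMap_eq_finrank_range (LinearMap.mulLeft k e), h2]
  exact (Submodule.equivMapOfInjective (form s) hinj
    (LinearMap.range (LinearMap.mulRight k e))).finrank_eq

end form

section center

variable [FiniteDimensional k A]

/-- The corner `e A e`. -/
def corner (k : Type*) [Field k] {A : Type*} [Ring A] [Algebra k A] (e : A) : Submodule k A :=
  LinearMap.range ((LinearMap.mulLeft k e).comp (LinearMap.mulRight k e))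

omit [FiniteDimensional k A] in
theorem mem_corner (hee : e * e = e) {x : A} : x ∈ corner k e ↔ e * x = x ∧ x * e = x := by
  constructor
  · rintro ⟨y, rfl⟩
    simp only [LinearMap.comp_apply, LinearMap.mulLeft_apply, LinearMap.mulRight_apply]
    constructor
    · rw [← mul_assoc, hee]
    · rw [mul_assoc, mul_assoc, hee]
  · rintro ⟨h1, h2⟩
    exact ⟨x, by simp [h1, h2]⟩

/-- The centre of `A b`. -/
def cen (k : Type*) [Field k] {A : Type*} [Ring A] [Algebra k A] (b : A) : Submodule k A where
  carrier := {z | z * b = z ∧ ∀ x, z * x = x * z}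
  add_mem' := fun {x y} hx hy => ⟨by rw [add_mul, hx.1, hy.1], fun z => by
    rw [add_mul, mul_add, hx.2, hy.2]⟩
  zero_mem' := ⟨zero_mul _, fun x => by rw [zero_mul, mul_zero]⟩
  smul_mem' := fun c {x} hx => ⟨by rw [smul_mul_assoc, hx.1], fun z => by
    rw [smul_mul_assoc, mul_smul_comm, hx.2]⟩

omit [FiniteDimensional k A] in
theorem mem_cen {z : A} : z ∈ cen k b ↔ z * b = z ∧ ∀ x, z * x = x * z := Iff.rfl

/-- The centre of the corner. -/
def cornerCen (k : Type*) [Field k] {A : Type*} [Ring A] [Algebra k A] (e : A) :
    Submodule k A where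
  carrier := {z | z ∈ corner k e ∧ ∀ x ∈ corner k e, z * x = x * z}
  add_mem' := fun {x y} hx hy => ⟨Submodule.add_mem _ hx.1 hy.1, fun z hz => by
    rw [add_mul, mul_add, hx.2 z hz, hy.2 z hz]⟩
  zero_mem' := ⟨Submodule.zero_mem _, fun x _ => by rw [zero_mul, mul_zero]⟩
  smul_mem' := fun c {x} hx => ⟨Submodule.smul_mem _ _ hx.1, fun z hz => by
    rw [smul_mul_assoc, mul_smul_comm, hx.2 z hz]⟩

omit [FiniteDimensional k A] in
theorem mem_cornerCen {z : A} :
    z ∈ cornerCen k e ↔ z ∈ corner k e ∧ ∀ x ∈ corner k e, z * x = x * z := Iff.rfl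

omit [FiniteDimensional k A] in
/-- `b` is a sum of elements of `A e A`. -/
theorem exists_sum_eq (h : Dat π b N) (he : Prim π b e i₀) :
    ∃ u v : ι → A, ∑ i, u i * e * v i = b := by
  obtain ⟨E, hE⟩ := h.exists_units
  set x : A := ∑ i, E i i₀ * e * E i₀ i with hx
  have hπx : π 1 = π x := by
    rw [hx, map_sum, map_one]
    have h1 : ∀ i, π (E i i₀ * e * E i₀ i) = Matrix.single i i (1 : k) := by
      intro i
      rw [map_mul, map_mul, hE, hE, he.map]
      simp
    rw [Finset.sum_congr rfl fun i _ => h1 i]
    ext a c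
    simp only [Matrix.sum_apply, Matrix.single_apply, Matrix.one_apply]
    by_cases hac : a = c
    · subst hac; simp
    · rw [if_neg hac]
      refine (Finset.sum_eq_zero fun i _ => ?_).symm
      rw [if_neg]
      rintro ⟨rfl, rfl⟩
      exact hac rfl
  have hj := h.mem_of_map hπx
  set j := (1 - x) * b with hjd
  have hjb : j * b = j := by rw [hjd, mul_assoc, h.idem]
  -- `x * b = b - j` is invertible
  set w : A := (∑ m ∈ Finset.range N, j ^ m) * b with hw
  have hxb : x * w = b := by
    have h1 : x * b = b - j := by rw [hjd, sub_mul, one_mul]; abel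
    have h2 : (1 - j) * ∑ m ∈ Finset.range N, j ^ m = 1 := by
      have := mul_neg_geom_sum j N
      rw [this, h.pow_eq_zero hj, sub_zero]
    calc x * w = x * b * ∑ m ∈ Finset.range N, j ^ m := by
          rw [hw, ← h.cent, ← mul_assoc]
      _ = (1 - j) * (∑ m ∈ Finset.range N, j ^ m) * b := by
          rw [h1, mul_assoc (1 - j), ← h.cent, ← mul_assoc, sub_mul 1 j b, one_mul, hjb]
      _ = b := by rw [h2, one_mul]
  refine ⟨fun i => E i i₀, fun i => E i₀ i * w, ?_⟩
  rw [← hxb, hx, Finset.sum_mul]
  exact Finset.sum_congr rfl fun i _ => by rw [← mul_assoc]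

/-- Extension of central elements of the corner. -/
theorem finrank_cornerCen_le (h : Dat π b N) (he : Prim π b e i₀) :
    finrank k (cornerCen k e) ≤ finrank k (cen k b) := by
  obtain ⟨u, v, huv⟩ := exists_sum_eq h he
  let ζ : A →ₗ[k] A := ∑ i, (LinearMap.mulLeft k (u i * e)).comp (LinearMap.mulRight k (e * v i))
  have hζ : ∀ w, ζ w = ∑ i, u i * e * (w * (e * v i)) := by
    intro w
    simp only [ζ, LinearMap.sum_apply, LinearMap.comp_apply, LinearMap.mulLeft_apply,
      LinearMap.mulRight_apply]
  have hcomm : ∀ w ∈ cornerCen k e, ∀ y, w * (e * y * e) = e * y * e * w := by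
    intro w hw y
    refine hw.2 _ ?_
    rw [mem_corner he.idem]
    constructor
    · simp only [← mul_assoc, he.idem]
    · simp only [mul_assoc, he.idem]
  have hmem : ∀ w ∈ cornerCen k e, ζ w ∈ cen k b := by
    intro w hw
    have hwc := (mem_corner he.idem).1 hw.1
    have hζ' : ζ w = ∑ i, u i * w * v i := by
      rw [hζ]
      refine Finset.sum_congr rfl fun i _ => ?_
      calc u i * e * (w * (e * v i)) = u i * (e * w * e) * v i := by simp only [mul_assoc]
        _ = u i * w * v i := by rw [hwc.1, hwc.2]
    have hwb : w * b = w := by rw [← hwc.2, mul_assoc, he.mul]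
    have hζb : ζ w * b = ζ w := by
      rw [hζ', Finset.sum_mul]
      refine Finset.sum_congr rfl fun i _ => ?_
      rw [mul_assoc, ← h.cent, ← mul_assoc, mul_assoc (u i), hwb]
    refine ⟨hζb, fun x => ?_⟩
    have hbζ : b * ζ w = ζ w := by rw [h.cent, hζb]
    -- both sides equal the double sum
    have h1 : x * ζ w = ∑ i, ∑ j, u j * (e * (v j * x * u i) * e) * w * v i := by
      calc x * ζ w = b * (x * ζ w) := by rw [← mul_assoc, h.cent, mul_assoc, hbζ]
        _ = ∑ i, ∑ j, u j * (e * (v j * x * u i) * e) * w * v i := by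
          rw [hζ', ← huv, Finset.mul_sum, Finset.mul_sum]
          refine Finset.sum_congr rfl fun i _ => ?_
          rw [Finset.sum_mul]
          refine Finset.sum_congr rfl fun j _ => ?_
          calc u j * e * v j * (x * (u i * w * v i)) = u j * (e * (v j * x * u i)) * w * v i := by
                simp only [mul_assoc]
            _ = u j * (e * (v j * x * u i)) * (e * w) * v i := by rw [hwc.1]
            _ = _ := by simp only [mul_assoc]
    have h2 : ζ w * x = ∑ i, ∑ j, u i * w * (e * (v i * x * u j) * e) * v j := by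
      calc ζ w * x = ζ w * x * b := by rw [mul_assoc, ← h.cent, ← mul_assoc, hζb]
        _ = ∑ i, ∑ j, u i * w * (e * (v i * x * u j) * e) * v j := by
          rw [hζ', ← huv, Finset.sum_mul, Finset.sum_mul]
          refine Finset.sum_congr rfl fun i _ => ?_
          rw [Finset.mul_sum]
          refine Finset.sum_congr rfl fun j _ => ?_
          calc u i * w * v i * x * (u j * e * v j) = u i * w * (v i * x * u j * e) * v j := by
                simp only [mul_assoc]
            _ = u i * (w * e) * (v i * x * u j * e) * v j := by rw [hwc.2]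
            _ = _ := by simp only [mul_assoc]
    rw [h1, h2, Finset.sum_comm]
    refine Finset.sum_congr rfl fun i _ => Finset.sum_congr rfl fun j _ => ?_
    rw [mul_assoc (u j) w, hcomm w hw, ← mul_assoc (u j)]
  have hback : ∀ w ∈ cornerCen k e, e * ζ w * e = w := by
    intro w hw
    have hwc := (mem_corner he.idem).1 hw.1
    rw [hζ, Finset.mul_sum, Finset.sum_mul]
    have h1 : ∀ i, e * (u i * e * (w * (e * v i))) * e = w * (e * (u i * e * v i) * e) := by
      intro i
      calc e * (u i * e * (w * (e * v i))) * e = (e * u i * e * w) * (e * v i * e) := by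
            simp only [mul_assoc]
        _ = w * (e * u i * e) * (e * v i * e) := by rw [hcomm w hw]
        _ = w * (e * u i * (e * e) * v i * e) := by simp only [mul_assoc]
        _ = _ := by rw [he.idem]; simp only [mul_assoc]
    rw [Finset.sum_congr rfl fun i _ => h1 i, ← Finset.mul_sum, ← Finset.sum_mul, ← Finset.mul_sum,
      huv, he.mul, he.idem, hwc.2]
  let ζ' : cornerCen k e →ₗ[k] cen k b :=
    (ζ.comp (cornerCen k e).subtype).codRestrict (cen k b) fun w => hmem w w.2
  refine LinearMap.finrank_le_finrank_of_injective (f := ζ') ?_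
  intro w w' hww
  have h1 : ζ w = ζ w' := congrArg Subtype.val hww
  apply Subtype.ext
  rw [← hback w w.2, ← hback w' w'.2, h1]

/-- Cutting down central elements. -/
theorem finrank_cen_le (h : Dat π b N) (he : Prim π b e i₀) :
    finrank k (cen k b) ≤ finrank k (cornerCen k e) := by
  obtain ⟨u, v, huv⟩ := exists_sum_eq h he
  let ζ' : cen k b →ₗ[k] cornerCen k e :=
    ((LinearMap.mulLeft k e).comp (cen k b).subtype).codRestrict (cornerCen k e) (by
      rintro ⟨z, hz⟩
      change e * z ∈ cornerCen k e
      refine ⟨(mem_corner he.idem).2 ⟨by rw [← mul_assoc, he.idem], by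
        rw [mul_assoc, hz.2, ← mul_assoc, he.idem]⟩, fun x hx => ?_⟩
      rw [mem_corner he.idem] at hx
      rw [mul_assoc, hz.2, ← mul_assoc, hx.1, ← mul_assoc, hx.2])
  refine LinearMap.finrank_le_finrank_of_injective (f := ζ') ?_
  rw [← LinearMap.ker_eq_bot, LinearMap.ker_eq_bot']
  rintro ⟨z, hz⟩ hz0
  have h1 : e * z = 0 := congrArg Subtype.val hz0
  apply Subtype.ext
  change z = 0
  rw [← hz.1, ← huv, Finset.mul_sum]
  refine Finset.sum_eq_zero fun i _ => ?_
  rw [← mul_assoc, ← mul_assoc, hz.2, mul_assoc (u i), hz.2, h1, mul_zero, zero_mul]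

omit [FiniteDimensional k A] in
theorem cornerCen_le : cornerCen k e ≤ corner k e := fun _ h => h.1

/-- The radical of the corner. -/
def rad (π : A →ₐ[k] Matrix ι ι k) (e : A) : Submodule k A :=
  corner k e ⊓ LinearMap.ker π.toLinearMap

omit [FiniteDimensional k A] in
theorem mem_rad (hee : e * e = e) {x : A} : x ∈ rad π e ↔ (e * x = x ∧ x * e = x) ∧ π x = 0 := by
  rw [rad, Submodule.mem_inf, mem_corner hee]
  rfl

omit [FiniteDimensional k A] in
theorem rad_le_kerOn (he : Prim π b e i₀) : rad π e ≤ kerOn π b := by
  intro x hx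
  rw [mem_rad he.idem] at hx
  rw [mem_kerOn]
  exact ⟨hx.2, by rw [← hx.1.2, mul_assoc, he.mul]⟩

omit [FiniteDimensional k A] in
theorem rad_mul_le (he : Prim π b e i₀) : rad π e * rad π e ≤ rad π e := by
  rw [Submodule.mul_le]
  intro x hx y hy
  rw [mem_rad he.idem] at hx hy ⊢
  exact ⟨⟨by rw [← mul_assoc, hx.1.1], by rw [mul_assoc, hy.1.2]⟩, by rw [map_mul, hx.2, zero_mul]⟩

omit [FiniteDimensional k A] in
theorem rad_pow (h : Dat π b N) (he : Prim π b e i₀) : rad π e ^ N = ⊥ := by
  have h1 := pow_le_pow_left' (rad_le_kerOn he) N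
  rwa [h.nil, le_bot_iff] at h1

omit [FiniteDimensional k A] in
/-- Elements of the corner are scalars modulo the radical. -/
theorem exists_sub_mem_rad (he : Prim π b e i₀) {x : A} (hx : x ∈ corner k e) :
    ∃ c : k, x - c • e ∈ rad π e := by
  rw [mem_corner he.idem] at hx
  refine ⟨π x i₀ i₀, (mem_rad he.idem).2 ⟨⟨?_, ?_⟩, ?_⟩⟩
  · rw [mul_sub, hx.1, mul_smul_comm, he.idem]
  · rw [sub_mul, hx.2, smul_mul_assoc, he.idem]
  · have h1 : π x = Matrix.single i₀ i₀ 1 * π x * Matrix.single i₀ i₀ 1 := by
      rw [← he.map, ← map_mul, ← map_mul, hx.1, hx.2]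
    rw [map_sub, map_smul, he.map, sub_eq_zero]
    conv_lhs => rw [h1]
    rw [Matrix.single_mul_mul_single]
    simp

theorem finrank_corner (he : Prim π b e i₀) :
    finrank k (corner k e) = finrank k (rad π e) + 1 := by
  have hec : e ∈ corner k e := (mem_corner he.idem).2 ⟨he.idem, he.idem⟩
  have hne : e ∉ rad π e := by
    intro h
    have h1 := ((mem_rad he.idem).1 h).2
    rw [he.map] at h1
    have h2 := congrFun (congrFun h1 i₀) i₀
    simp at h2
  have he0 : e ≠ 0 := fun h => hne (h ▸ Submodule.zero_mem _)
  have h1 : corner k e = Submodule.span k {e} ⊔ rad π e := by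
    apply le_antisymm
    · intro x hx
      obtain ⟨c, hc⟩ := exists_sub_mem_rad he hx
      rw [show x = c • e + (x - c • e) by abel]
      exact Submodule.add_mem_sup (Submodule.smul_mem _ _ (Submodule.mem_span_singleton_self e)) hc
    · refine sup_le (Submodule.span_le.2 (Set.singleton_subset_iff.2 hec)) inf_le_left
  have h2 : Submodule.span k {e} ⊓ rad π e = ⊥ := by
    rw [Submodule.eq_bot_iff]
    rintro x ⟨hx1, hx2⟩
    obtain ⟨c, rfl⟩ := Submodule.mem_span_singleton.1 hx1
    by_cases hc : c = 0
    · rw [hc, zero_smul]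
    · exfalso
      apply hne
      have := Submodule.smul_mem _ c⁻¹ hx2
      rwa [smul_smul, inv_mul_cancel₀ hc, one_smul] at this
  have h3 := Submodule.finrank_sup_add_finrank_inf_eq (Submodule.span k {e}) (rad π e)
  rw [← h1, h2, finrank_bot, finrank_span_singleton he0] at h3
  omega

variable {s : A →ₗ[k] k}

omit [FiniteDimensional k A] in
theorem comm_rad_le (he : Prim π b e i₀) : comm (rad π e) ≤ rad π e :=
  (comm_le _).trans (by rw [pow_two]; exact rad_mul_le he)

/-- The commutators have small codimension. -/
theorem finrank_corner_le_comm (hs : ∀ x y, s (x * y) = s (y * x))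
    (hnd : ∀ x, (∀ y, s (x * y) = 0) → x = 0) (he : Prim π b e i₀) :
    finrank k (corner k e) ≤ finrank k (comm (rad π e)) + finrank k (cornerCen k e) := by
  -- the linear map from the corner to the dual of the commutators
  let φ : corner k e →ₗ[k] Module.Dual k (comm (rad π e)) :=
    { toFun := fun x => (s.comp (LinearMap.mulLeft k (x : A))).comp (comm (rad π e)).subtype
      map_add' := fun x y => by
        ext z
        simp [add_mul]
      map_smul' := fun c x => by
        ext z
        simp }
  have hφ : ∀ (x : corner k e) (z : comm (rad π e)), φ x z = s (x * z) := fun _ _ => rfl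
  have h1 := LinearMap.finrank_range_add_finrank_ker φ
  have h2 : finrank k (LinearMap.range φ) ≤ finrank k (comm (rad π e)) := by
    refine (Submodule.finrank_le _).trans ?_
    rw [Subspace.dual_finrank_eq]
  have h3 : finrank k (LinearMap.ker φ) ≤ finrank k (cornerCen k e) := by
    let ψ : LinearMap.ker φ →ₗ[k] cornerCen k e :=
      ((corner k e).subtype.comp (LinearMap.ker φ).subtype).codRestrict (cornerCen k e) (by
        rintro ⟨⟨x, hx⟩, hxφ⟩
        change x ∈ cornerCen k e
        have hxc := (mem_corner he.idem).1 hx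
        refine ⟨hx, ?_⟩
        have hker : ∀ y ∈ rad π e, ∀ z ∈ rad π e, s (x * (y * z - z * y)) = 0 := by
          intro y hy z hz
          have h4 : φ ⟨x, hx⟩ ⟨y * z - z * y, Submodule.subset_span ⟨y, hy, z, hz, rfl⟩⟩ = 0 := by
            rw [LinearMap.mem_ker.1 hxφ]
            rfl
          rwa [hφ] at h4
        have hker2 : ∀ y ∈ corner k e, ∀ z ∈ corner k e, s (x * (y * z - z * y)) = 0 := by
          intro y hy z hz
          obtain ⟨c, hc⟩ := exists_sub_mem_rad (π := π) he hy
          obtain ⟨d, hd⟩ := exists_sub_mem_rad (π := π) he hz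
          have h5 := hker _ hc _ hd
          rw [mem_corner he.idem] at hy hz
          have h6 : (y - c • e) * (z - d • e) - (z - d • e) * (y - c • e) = y * z - z * y := by
            simp only [mul_sub, sub_mul, smul_mul_assoc, mul_smul_comm, hy.1, hy.2, hz.1, hz.2,
              he.idem, smul_sub, smul_smul, mul_comm d c]
            abel
          rwa [h6] at h5
        intro y hy
        rw [← sub_eq_zero]
        refine hnd _ fun z => ?_
        have hyc := (mem_corner he.idem).1 hy
        -- replace `z` by `e * z * e`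
        have hz : e * z * e ∈ corner k e := by
          rw [mem_corner he.idem]
          exact ⟨by simp only [← mul_assoc, he.idem], by simp only [mul_assoc, he.idem]⟩
        have h7 := hker2 y hy _ hz
        have h8 : s ((x * y - y * x) * z) = s (x * (y * (e * z * e) - e * z * e * y)) := by
          have e1 : s (x * y * z) = s (x * (y * (e * z * e))) := by
            calc s (x * y * z) = s (e * (x * (y * z))) := by
                  rw [← mul_assoc e, hxc.1, mul_assoc]
              _ = s (x * (y * z) * e) := hs _ _
              _ = s (x * (y * e * z * e)) := by rw [hyc.2]; simp only [mul_assoc]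
              _ = s (x * (y * (e * z * e))) := by simp only [mul_assoc]
          have e2 : s (y * x * z) = s (x * (e * z * e * y)) := by
            calc s (y * x * z) = s (y * (x * z)) := by rw [mul_assoc]
              _ = s (x * z * y) := hs _ _
              _ = s (x * e * z * (e * y)) := by rw [hxc.2, hyc.1]
              _ = s (x * (e * z * e * y)) := by simp only [mul_assoc]
          rw [sub_mul, map_sub, e1, e2, mul_sub, map_sub]
        rw [h8, h7])
    refine LinearMap.finrank_le_finrank_of_injective (f := ψ) ?_
    intro x y hxy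
    have : ((x : corner k e) : A) = ((y : corner k e) : A) :=
      congrArg (fun t : cornerCen k e => (t : A)) hxy
    exact Subtype.ext (Subtype.ext this)
  omega

/-- **Külshammer's theorem**: if the centre of `A b` has dimension at most four then
`dim (A b) = n ^ 2 * dim Z(A b)`. -/
theorem finrank_eq_of_small_center (hs : ∀ x y, s (x * y) = s (y * x))
    (hnd : ∀ x, (∀ y, s (x * y) = 0) → x = 0) (h : Dat π b N) (he : Prim π b e i₀)
    (hZ : finrank k (cen k b) ≤ 4) :
    finrank k (LinearMap.range (LinearMap.mulRight k b)) =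
      Fintype.card ι ^ 2 * finrank k (cen k b) := by
  have hc1 := finrank_cornerCen_le h he
  have hc2 := finrank_cen_le h he
  have hc3 := finrank_corner_le_comm hs hnd he
  have hc4 := finrank_corner he
  -- the radical of the corner is commutative
  have hcomm : ∀ y ∈ rad π e, ∀ z ∈ rad π e, y * z = z * y := by
    refine commutative_of_finrank_le (rad π e) (rad_mul_le he) (rad_pow h he) s hs ?_ (by omega)
    intro x hx hxJ hsx
    rw [mem_rad he.idem] at hx
    refine hnd x fun y => ?_
    have hy : e * y * e ∈ corner k e := by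
      rw [mem_corner he.idem]
      exact ⟨by simp only [← mul_assoc, he.idem], by simp only [mul_assoc, he.idem]⟩
    obtain ⟨c, hc⟩ := exists_sub_mem_rad (π := π) he hy
    have h1 := hxJ _ hc
    rw [mul_sub, mul_smul_comm, hx.1.2, sub_eq_zero] at h1
    calc s (x * y) = s (e * (x * (e * y))) := by
          rw [← mul_assoc x, hx.1.2, ← mul_assoc, hx.1.1]
      _ = s (x * (e * y) * e) := hs _ _
      _ = s (x * (e * y * e)) := by rw [mul_assoc]
      _ = 0 := by rw [h1, map_smul, hsx, smul_zero]
  -- so the corner is commutative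
  have hcorner : corner k e ≤ cornerCen k e := by
    intro x hx
    refine ⟨hx, fun y hy => ?_⟩
    obtain ⟨c, hc⟩ := exists_sub_mem_rad (π := π) he hx
    obtain ⟨d, hd⟩ := exists_sub_mem_rad (π := π) he hy
    have h5 := hcomm _ hc _ hd
    rw [mem_corner he.idem] at hx hy
    simp only [mul_sub, sub_mul, smul_mul_assoc, mul_smul_comm, hx.1, hx.2, hy.1, hy.2,
      he.idem, smul_sub, smul_smul, mul_comm d c] at h5
    have h6 : x * y - y * x = 0 := by
      have : x * y - y * x = (x * y - c • y - (d • x - (c * d) • e)) -
        (y * x - d • x - (c • y - (c * d) • e)) := by abel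
      rw [this, h5, sub_self]
    exact sub_eq_zero.1 h6
  have heq : corner k e = cornerCen k e := le_antisymm hcorner cornerCen_le
  have hdim : finrank k (corner k e) = finrank k (cen k b) := by
    rw [heq]; exact le_antisymm hc1 hc2
  -- dimension formulas
  have hd1 : finrank k (LinearMap.range (LinearMap.mulRight k b)) =
      Fintype.card ι * finrank k (LinearMap.range (LinearMap.mulLeft k e)) := by
    have h1 := finrank_eq h he (Algebra.lmul k A) (LinearMap.range (LinearMap.mulRight k b))
      (by
        rintro x _ ⟨y, rfl⟩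
        exact ⟨x * y, by simp [mul_assoc]⟩)
      (by
        rintro _ ⟨y, rfl⟩
        simp [← h.cent, ← mul_assoc, h.idem])
    have h2 : (LinearMap.range (LinearMap.mulRight k b)).map (Algebra.lmul k A e) =
        LinearMap.range (LinearMap.mulLeft k e) := by
      apply le_antisymm
      · rintro _ ⟨_, ⟨y, rfl⟩, rfl⟩
        exact ⟨y * b, by simp⟩
      · rintro _ ⟨y, rfl⟩
        refine ⟨y * b, ⟨y, rfl⟩, ?_⟩
        simp only [Algebra.coe_lmul_eq_mul, LinearMap.mul_apply', LinearMap.mulLeft_apply]
        rw [← h.cent, ← mul_assoc, he.mul]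
    rw [h1, h2]
  have hd2 : finrank k (LinearMap.range (LinearMap.mulRight k e)) =
      Fintype.card ι * finrank k (corner k e) := by
    have h1 := finrank_eq h he (Algebra.lmul k A) (LinearMap.range (LinearMap.mulRight k e))
      (by
        rintro x _ ⟨y, rfl⟩
        exact ⟨x * y, by simp [mul_assoc]⟩)
      (by
        rintro _ ⟨y, rfl⟩
        simp only [Algebra.coe_lmul_eq_mul, LinearMap.mul_apply', LinearMap.mulRight_apply]
        rw [← mul_assoc, h.cent, mul_assoc, h.cent, he.mul])
    have h2 : (LinearMap.range (LinearMap.mulRight k e)).map (Algebra.lmul k A e) =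
        corner k e := by
      apply le_antisymm
      · rintro _ ⟨_, ⟨y, rfl⟩, rfl⟩
        exact ⟨y, by simp⟩
      · rintro _ ⟨y, rfl⟩
        exact ⟨y * e, ⟨y, rfl⟩, by simp⟩
    rw [h1, h2]
  rw [hd1, ← finrank_mulRight_eq hs hnd e, hd2, hdim, sq, mul_assoc]

end center

end Cfsg.Agent.H645.SymAlg
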