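import Cfsg.Agent.H645.FusCount
import Cfsg.Agent.H645.FourierKer
import Cfsg.Agent.H645.AbelPair
import Cfsg.Agent.H650.StarDat
import Cfsg.Agent.S4677
import Cfsg.Agent.S4658
import Cfsg.Agent.H613.Contrib

/-!
# The trace of the star operators, for abelian `P`

`a = (P, e)` is a maximal Brauer pair of the block `B`, `P` abelian, `T = stab a`.

* `trace_star`: `∑_{χ ∈ B} ⟨η * χ, χ⟩ = |T|⁻¹ ∑_{v ∈ P} η v |C_T(v)| l(b_v)`;
* `trace_zero`: the trace is zero for the nontrivial linear characters of `P / foc`;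
* `sum_foc_eq`: hence the sums of `|C_T(v)| l(b_v)` over the cosets of `foc` are equal.
-/

set_option autoImplicit false
set_option linter.unusedSectionVars false

open Cfsg
open scoped ComplexConjugate

namespace Cfsg.Agent.H645.TraceForm

open Cfsg.Agent.H651 Cfsg.Agent.H649 Cfsg.Agent.Characters Cfsg.Agent.H652.Ctr
open Cfsg.Agent.H652.DoubleCount Cfsg.Agent.H645.FusCount Cfsg.Agent.H650

universe u

variable {G : Type u} [Group G] [Fintype G] {p : ℕ} [Fact p.Prime] {M : Ideal AlgInt}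
  [M.IsPrime] (hM : IsPModular p M) {B : Set (IrrCharacter G)} {a : BrauerPairIdx G}
  (hmax : IsMaximalBrauerPair p M B a.1 a.2)

include hM hmax

theorem isBrauerPairOf_bP {v : G} (hv : v ∈ a.1) :
    IsBrauerPairOf p M B (bP p M a v).1 (bP p M a v).2 := by
  obtain ⟨h1, h2⟩ := bP_spec hM hmax.1.1 hv
  exact (Cfsg.Agent.S4658.result p M hM a.1 (bP p M a v).1 a.2 (bP p M a v).2 hmax.1.1
    (LEIdx.isBrauerPair h2 hmax.1.1) h2 B hmax.1.2.1).1 hmax.1

theorem sum_ctr_self {v : G} (hv : v ∈ a.1) [Fintype B] :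
    ∑ χ : B, ctr p v (bP p M a v) (χ : G → ℂ) (χ : G → ℂ) =
      blockRank p (bP p M a v).2 := by
  classical
  obtain ⟨h1, h2⟩ := bP_spec hM hmax.1.1 hv
  have h3 := isBrauerPairOf_bP hM hmax hv
  have hord := exists_orderOf_eq_pow hM hmax.1.1 (Fact.out : p.Prime) hv
  revert h1 h3
  generalize bP p M a v = b
  intro h1 h3
  obtain ⟨Q, f⟩ := b
  have hQ : Q = Subgroup.zpowers v := h1
  subst hQ
  have hind := (isBrauerPairOf_iff_isInducedBlock hM hmax.1.2.1 h3.1.1 h3.1.2).1 h3
  have := Fintype.ofFinite (Subgroup.centralizer ((Subgroup.zpowers v : Subgroup G) : Set G))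
  have hfin : Finite (IrrCharacter (Subgroup.centralizer
    ((Subgroup.zpowers v : Subgroup G) : Set G))) := Core.finite_irr
  have := Fintype.ofFinite f
  rw [← Cfsg.Agent.H613.Contrib.sum_contr_self hM hord (centralizer_zpowers_eq v) hind]
  refine Finset.sum_congr rfl fun χ _ => ?_
  exact ctr_eq_contr hM v f h3.1.2 (Core.isIrr_isClassFunction χ.1.2)
    (Core.isIrr_isClassFunction χ.1.2)

/-- The trace of the operator `χ ↦ star η χ` on the span of `B`. -/
theorem trace_star {S : Subgroup G} (hS : Ctrl p M a S) [Fintype B] [Fintype a.1] {η : G → ℂ}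
    (hη : IsStable p M a η) :
    ∑ χ : B, classInner (H651.star p M a η (χ : G → ℂ)) (χ : G → ℂ) =
      (Nat.card S : ℂ)⁻¹ * ∑ v : a.1, η v *
        ((Nat.card (S ⊓ Subgroup.centralizer ({(v : G)} : Set G) : Subgroup G) : ℂ) *
          blockRank p (bP p M a (v : G)).2) := by
  rw [Finset.sum_congr rfl fun χ _ => classInner_star hM hmax.1.1 hS hη
    (Core.isIrr_isClassFunction χ.1.2) (Core.isIrr_isClassFunction χ.1.2), ← Finset.mul_sum,
    Finset.sum_comm]
  congr 1
  refine Finset.sum_congr rfl fun v _ => ?_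
  rw [← Finset.mul_sum, ← Finset.mul_sum, sum_ctr_self hM hmax v.2]

/-- The number of characters of `B`. -/
theorem card_eq {S : Subgroup G} (hS : Ctrl p M a S) [Fintype a.1] :
    (Nat.card B : ℂ) = (Nat.card S : ℂ)⁻¹ * ∑ v : a.1,
        ((Nat.card (S ⊓ Subgroup.centralizer ({(v : G)} : Set G) : Subgroup G) : ℂ) *
          blockRank p (bP p M a (v : G)).2) := by
  classical
  have hfin : Finite (IrrCharacter G) := Core.finite_irr
  have := Fintype.ofFinite B
  have h := trace_star hM hmax hS (isStable_const (p := p) (M := M) (a := a) 1)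
  simp only [one_mul] at h
  rw [← h]
  have h1 : ∀ χ : B, classInner (H651.star p M a (fun _ => 1) (χ : G → ℂ)) (χ : G → ℂ) = 1 := by
    intro χ
    rw [star_one hM hmax χ.2]
    exact Core.classInner_irr_self χ.1.2
  rw [Finset.sum_congr rfl fun χ _ => h1 χ]
  simp

section zero

variable (hab : ∀ x ∈ a.1, ∀ y ∈ a.1, x * y = y * x)

include hab

/-- The trace is zero for nontrivial linear characters. -/
theorem trace_zero {F : FusionSystem a.1} (hF : IsBlockFusionSystemOn p M B a.1 a.2 F)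
    {l : a.1 →* ℂˣ} (hl : l ∈ Lam F) (hl1 : l ≠ 1) [Fintype B] :
    ∑ χ : B, classInner (H651.star p M a (ext0 a.1 l) (χ : G → ℂ)) (χ : G → ℂ) = 0 := by
  have D := dat_of hM hmax hF
  refine Finset.sum_eq_zero fun χ _ => ?_
  refine Core.classInner_irr_ne (D.isIrr hl χ.2) χ.1.2 fun h => hl1 ?_
  ext x
  have h1 := D.eq_one_of_central hl χ.2 h x.2
    (Subgroup.mem_centralizer_iff.2 fun y hy => hab y hy x x.2)
  rw [show (⟨(x : G), x.2⟩ : a.1) = x from rfl] at h1
  rw [h1]
  rfl

theorem not_dvd_relIndex_stab :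
    ¬ p ∣ (Subgroup.centralizer (a.1 : Set G)).relIndex (stab a) := by
  have h := Cfsg.Agent.H641.not_dvd_relIndex hM hmax
  have hPP : a.1 ≤ Subgroup.centralizer (a.1 : Set G) := fun x hx =>
    Subgroup.mem_centralizer_iff.2 fun y hy => hab y hy x hx
  rw [sup_eq_right.2 hPP] at h
  have h1 : Cfsg.Agent.H644.pairStab M a.1 a.2 = stab a := by
    ext x
    rw [Cfsg.Agent.H644.mem_pairStab_iff_stabilizesBlock hM hmax.1.1.2, mem_stab]
    exact (conjIdx_eq_iff hmax.1.1.2 x).symm
  rwa [h1] at h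

/-- The focal subgroup is generated by the commutators of `P` with the stabilizer. -/
theorem exists_of_mem_foc {F : FusionSystem a.1} (hF : IsBlockFusionSystemOn p M B a.1 a.2 F) :
    F.focalSubgroup ≤ Subgroup.closure {y : G | ∃ t ∈ stab a, ∃ x ∈ a.1,
      y = x⁻¹ * (t * x * t⁻¹)} := by
  rw [FusionSystem.focalSubgroup, Subgroup.closure_le]
  rintro _ ⟨Q, φ, x, hφ, rfl⟩
  rw [hF.2] at hφ
  obtain ⟨hQP, g, hg, -, f, h1, h2⟩ := hφ
  obtain ⟨t, ht, h3⟩ := exists_mul_of_le hM hmax hab (a := a) (b := ⟨Q, f⟩) (x := g) h1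
    (by rw [conjIdx_mk]; exact h2)
  refine Subgroup.subset_closure ⟨t, ht, x, hQP x.2, ?_⟩
  rw [hg, h3 x x.2]

theorem stab_le_normalizer : stab a ≤ Subgroup.normalizer (a.1 : Set G) := fun x hx =>
  ((conjIdx_eq_iff hmax.1.1.2 x).1 hx).1

/-- `C_P(T) ∩ foc = 1`. -/
theorem eq_one_of_mem_foc {F : FusionSystem a.1} (hF : IsBlockFusionSystemOn p M B a.1 a.2 F)
    {w : G} (hw : w ∈ F.focalSubgroup) (hfix : ∀ t ∈ stab a, t * w * t⁻¹ = w) : w = 1 := by
  have hN := stab_le_normalizer hM hmax hab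
  set A : Subgroup (MulAut a.1) := ((stab a).subgroupOf (Subgroup.normalizer (a.1 : Set G))).map
    (Subgroup.normalizerMonoidHom a.1) with hA
  have hcard : ¬ p ∣ Nat.card A := by
    rw [hA, ← Subgroup.relIndex_ker, Subgroup.normalizerMonoidHom_ker,
      Subgroup.relIndex_subgroupOf hN]
    exact not_dvd_relIndex_stab hM hmax hab
  have hw1 : w ∈ (Subgroup.closure {y : a.1 | ∃ α ∈ A, ∃ x : a.1, y = x⁻¹ * α x}).map
      a.1.subtype := by
    refine (exists_of_mem_foc hM hmax hab hF).trans ?_ hw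
    rw [Subgroup.closure_le]
    rintro _ ⟨t, ht, x, hx, rfl⟩
    refine ⟨(⟨x, hx⟩ : a.1)⁻¹ * Subgroup.normalizerMonoidHom a.1 ⟨t, hN ht⟩ ⟨x, hx⟩,
      Subgroup.subset_closure ⟨Subgroup.normalizerMonoidHom a.1 ⟨t, hN ht⟩,
        ⟨⟨t, hN ht⟩, Subgroup.mem_subgroupOf.2 ht, rfl⟩, ⟨x, hx⟩, rfl⟩, rfl⟩
  obtain ⟨w', hw', rfl⟩ := hw1
  have h1 : w' = 1 := by
    refine FourierKer.disjoint_of_coprime (fun x y => Subtype.ext (hab x x.2 y y.2))
      hmax.1.1.1 A hcard hw' ?_
    rintro _ ⟨t, ht, rfl⟩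
    apply Subtype.ext
    exact hfix t (Subgroup.mem_subgroupOf.1 ht)
  rw [h1]
  rfl

theorem foc_le {F : FusionSystem a.1} (hF : IsBlockFusionSystemOn p M B a.1 a.2 F) :
    F.focalSubgroup ≤ a.1 := by
  refine (exists_of_mem_foc hM hmax hab hF).trans ?_
  rw [Subgroup.closure_le]
  rintro _ ⟨t, ht, x, hx, rfl⟩
  exact a.1.mul_mem (a.1.inv_mem hx) ((ctrl_of_abelian hM hmax hab).conj_mem ht hx)

open Classical in
/-- The sums over the coset `z foc`. -/
theorem sum_foc_eq {F : FusionSystem a.1} (hF : IsBlockFusionSystemOn p M B a.1 a.2 F)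
    {z : G} (hz : z ∈ a.1) (hzT : ∀ t ∈ stab a, t * z * t⁻¹ = z) [Fintype a.1] :
    ∑ w ∈ Finset.univ.filter (fun w : a.1 => (w : G) ∈ F.focalSubgroup),
      (Nat.card (stab a ⊓ Subgroup.centralizer ({(w : G)} : Set G) : Subgroup G) : ℂ) *
        blockRank p (bP p M a (w : G)).2 =
    ∑ w ∈ Finset.univ.filter (fun w : a.1 => (w : G) ∈ F.focalSubgroup),
      (Nat.card (stab a ⊓ Subgroup.centralizer ({(w : G)} : Set G) : Subgroup G) : ℂ) *
        blockRank p (bP p M a (z * w)).2 := by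
  have hfin : Finite (IrrCharacter G) := Core.finite_irr
  have := Fintype.ofFinite B
  have hS := ctrl_of_abelian hM hmax hab
  have h := FourierKer.sum_eq_sum_translate (fun x y : a.1 => Subtype.ext (hab x x.2 y y.2))
    (F.focalSubgroup.subgroupOf a.1) (fun v : a.1 =>
      (Nat.card (stab a ⊓ Subgroup.centralizer ({(v : G)} : Set G) : Subgroup G) : ℂ) *
        blockRank p (bP p M a (v : G)).2) (fun l hl hl1 => by
      have h1 := trace_zero hM hmax hab hF hl hl1
      rw [trace_star hM hmax hS (isStable_ext0 hF hl)] at h1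
      rcases mul_eq_zero.1 h1 with h2 | h2
      · exact absurd h2 (inv_ne_zero (by exact_mod_cast Nat.card_pos.ne'))
      · rw [← h2]
        refine Finset.sum_congr rfl fun v _ => ?_
        rw [ext0_of_mem l v.2]) ⟨z, hz⟩
  simp only [Subgroup.mem_subgroupOf] at h
  refine (Eq.trans ?_ h).trans ?_
  · refine Finset.sum_congr ?_ fun _ _ => rfl
    ext v
    simp
  · refine Finset.sum_congr ?_ fun w _ => ?_
    · ext v
      simp
    · have h2 : (stab a ⊓ Subgroup.centralizer ({((⟨z, hz⟩ * w : a.1) : G)} : Set G) :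
          Subgroup G) = stab a ⊓ Subgroup.centralizer ({(w : G)} : Set G) := by
        ext t
        simp only [Subgroup.mem_inf, Subgroup.mem_centralizer_singleton_iff, Subgroup.coe_mul]
        refine and_congr_right fun ht => ?_
        have h3 : t * z = z * t := by
          calc t * z = t * z * t⁻¹ * t := by group
            _ = z * t := by rw [hzT t ht]
        rw [← mul_assoc, h3, mul_assoc, mul_assoc]
        exact mul_left_cancel_iff
      rw [h2]
      rfl

end zero

end Cfsg.Agent.H645.TraceForm
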